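import Mathlib.Algebra.Ring.GeomSum
import Mathlib.Data.Nat.Prime.Basic
import Mathlib.Tactic

/-!
# Powers of two next to prime powers
-/

set_option autoImplicit false

namespace CfsgLib.HalfTransP

theorem odd_sum_range_iff (f : ℕ → ℤ) (hf : ∀ i, Odd (f i)) (d : ℕ) :
    Odd (∑ i ∈ Finset.range d, f i) ↔ Odd d := by
  induction d with
  | zero => simp
  | succ d ih => rw [Finset.sum_range_succ, Int.odd_add, ih, Nat.odd_add_one]; simp [hf d, Int.not_even_iff_odd.2 (hf d)]

theorem odd_geom_factor {q d : ℕ} (hq : Odd q) (hd : Odd d) :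
    Odd (∑ i ∈ Finset.range d, q ^ i) := by
  rw [← Int.odd_coe_nat]
  push_cast
  exact (odd_sum_range_iff (fun i => (q : ℤ) ^ i) (fun i => Odd.pow (by exact_mod_cast hq)) d).2 hd

theorem eq_one_of_odd_dvd_two_pow {u r : ℕ} (hu : Odd u) (h : u ∣ 2 ^ r) : u = 1 := by
  obtain ⟨k, -, rfl⟩ := (Nat.dvd_prime_pow Nat.prime_two).1 h
  rcases k with - | k
  · rfl
  · exact absurd hu (by simp [Nat.odd_iff, pow_succ])

/-- `q ^ d = 2 ^ r + 1` for an odd prime `q`. -/
theorem pred_pow_two {q d r : ℕ} (hq : q.Prime) (hq2 : q ≠ 2) (hd : 1 ≤ d)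
    (h : q ^ d = 2 ^ r + 1) : (d = 1 ∧ q = 2 ^ r + 1) ∨ (q = 3 ∧ d = 2) := by
  have hodd : Odd q := hq.odd_of_ne_two hq2
  rcases Nat.even_or_odd d with ⟨e, he⟩ | hdo
  · right
    set x := q ^ e with hx
    have hxx : x * x = 2 ^ r + 1 := by rw [hx, ← pow_add, ← he, h]
    have he1 : 1 ≤ e := by omega
    have hx3 : 3 ≤ x := by
      have : 3 ≤ q := by
        rcases hodd with ⟨k, hk⟩
        have := hq.two_le
        omega
      exact this.trans (Nat.le_self_pow (by omega) q)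
    have hprod : (x - 1) * (x + 1) = 2 ^ r := by
      obtain ⟨y, hy⟩ : ∃ y, x = y + 1 := ⟨x - 1, by omega⟩
      rw [hy] at hxx ⊢
      rw [Nat.add_sub_cancel]
      nlinarith
    obtain ⟨i, -, hi⟩ := (Nat.dvd_prime_pow Nat.prime_two).1 ⟨_, hprod.symm⟩
    obtain ⟨j, -, hj⟩ := (Nat.dvd_prime_pow Nat.prime_two).1 (Dvd.intro_left _ hprod)
    have h2 : i = 1 := by
      by_contra hne
      rcases Nat.lt_or_ge i 1 with hi0 | hi2
      · rw [show i = 0 by omega, pow_zero] at hi
        omega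
      · have h4 : 4 ∣ x - 1 := hi ▸ pow_dvd_pow 2 (show 2 ≤ i by omega)
        have h5 : 4 ∣ x + 1 := hj ▸ pow_dvd_pow 2 (show 2 ≤ j by
          by_contra hj2
          have h6 : 2 ^ j ≤ 2 ^ 1 := Nat.pow_le_pow_right (by norm_num) (show j ≤ 1 by omega)
          omega)
        omega
    rw [h2, pow_one] at hi
    have hx' : x = 3 := by omega
    have hq3 : q ∣ 3 := hx' ▸ dvd_pow_self q (show e ≠ 0 by omega)
    have : q = 3 := (Nat.prime_dvd_prime_iff_eq hq Nat.prime_three).1 hq3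
    refine ⟨this, ?_⟩
    have h1 : e = 1 := Nat.pow_right_injective (le_refl 2 |>.trans hq.two_le)
      (show q ^ e = q ^ 1 by rw [pow_one, ← hx, hx', this])
    omega
  · left
    have hgeom := geom_sum_mul_add (q - 1) d
    rw [Nat.sub_add_cancel hq.one_le, h] at hgeom
    have hu : ∑ i ∈ Finset.range d, q ^ i = 1 :=
      eq_one_of_odd_dvd_two_pow (r := r) (odd_geom_factor hodd hdo) ⟨q - 1, by omega⟩
    rw [hu, one_mul] at hgeom
    have := hq.two_le
    have hd' : d = 1 := Nat.pow_right_injective hq.two_le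
      (show q ^ d = q ^ 1 by rw [pow_one, h]; omega)
    exact ⟨hd', by omega⟩

/-- `q ^ j + 1 = 2 ^ m` for an odd prime `q`. -/
theorem succ_pow_two {q j m : ℕ} (hq : q.Prime) (hq2 : q ≠ 2) (hj : 1 ≤ j)
    (h : q ^ j + 1 = 2 ^ m) : j = 1 := by
  have hodd : Odd q := hq.odd_of_ne_two hq2
  rcases Nat.even_or_odd j with ⟨e, he⟩ | hjo
  · exfalso
    obtain ⟨k, hk⟩ := hodd.pow (n := e)
    have hx : q ^ j = 4 * (k * k + k) + 1 := by rw [he, pow_add, hk]; ring
    have h3 : 3 ≤ q ^ j := by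
      have : 3 ≤ q := by
        have := hq.two_le
        omega
      exact this.trans (Nat.le_self_pow (by omega) q)
    rcases Nat.lt_or_ge m 2 with hm | hm
    · interval_cases m <;> omega
    · have : 4 ∣ 2 ^ m := pow_dvd_pow 2 hm
      omega
  · set u := ∑ i ∈ Finset.range j, (-(q : ℤ)) ^ i with hu
    have hmul : (q + 1 : ℤ) * u = 2 ^ m := by
      have e := geom_sum_mul (-(q : ℤ)) j
      rw [← hu, hjo.neg_pow] at e
      have h' : ((q : ℤ) ^ j + 1) = 2 ^ m := by exact_mod_cast h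
      linarith
    have hodd' : Odd u.natAbs := by
      rw [Int.natAbs_odd, hu]
      exact (odd_sum_range_iff _ (fun i => Odd.pow (odd_neg.2 (by exact_mod_cast hodd))) j).2 hjo
    have habs := congrArg Int.natAbs hmul
    rw [Int.natAbs_mul, Int.natAbs_pow] at habs
    have hu1 : u.natAbs = 1 := eq_one_of_odd_dvd_two_pow hodd' (Dvd.intro_left _ habs)
    rw [hu1, mul_one] at habs
    have hq1 : q + 1 = 2 ^ m := by
      have e : ((q : ℤ) + 1).natAbs = q + 1 := by omega
      rw [e] at habs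
      simpa using habs
    refine Nat.pow_right_injective hq.two_le (show q ^ j = q ^ 1 by rw [pow_one]; omega)

end CfsgLib.HalfTransP
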