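import Cfsg.Agent.HalfTransP.Cyclic
import Cfsg.Agent.HalfTransP.Arith
import Mathlib.GroupTheory.SpecificGroups.Dihedral

/-!
# The dihedral and semidihedral case
-/

set_option maxHeartbeats 400000
set_option autoImplicit false
set_option linter.unusedSectionVars false
set_option linter.style.haveILetI false

namespace CfsgLib.HalfTransP

variable {q : ℕ} [Fact q.Prime] {V : Type*} [AddCommGroup V] [Module (ZMod q) V]
variable {G : Type*} [Group G] [Finite G] {ρ : G →* (V ≃ₗ[ZMod q] V)}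

theorem nonempty_dihedral_equiv {a t : G} {n : ℕ} [NeZero n] (ha : orderOf a = n) (ht : t * t = 1)
    (htA : t ∉ Subgroup.zpowers a) (hinv : t * a * t⁻¹ * a = 1)
    (hidx : (Subgroup.zpowers a).index = 2) : Nonempty (G ≃* DihedralGroup n) := by
  have hpow : ∀ i j : ZMod n, a ^ (i + j).val = a ^ i.val * a ^ j.val := fun i j => by
    rw [← pow_add, ZMod.val_add]
    exact pow_eq_pow_iff_modEq.2 (by rw [ha]; exact Nat.mod_modEq _ _)
  have hta : ∀ i : ZMod n, a ^ i.val * t = t * a ^ (-i).val := by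
    intro i
    have h1 : t * a * t⁻¹ = a⁻¹ := eq_inv_of_mul_eq_one_left hinv
    have h2 : t * a ^ (-i).val * t⁻¹ = a ^ i.val := by
      rw [← conj_pow, h1, inv_pow, inv_eq_iff_mul_eq_one, ← hpow, neg_add_cancel, ZMod.val_zero,
        pow_zero]
    rw [← h2, inv_mul_cancel_right]
  let f : DihedralGroup n → G := fun x => match x with
    | .r i => a ^ i.val
    | .sr i => t * a ^ i.val
  have hf : ∀ x y, f (x * y) = f x * f y := by
    rintro (i | i) (j | j)
    · show a ^ (i + j).val = a ^ i.val * a ^ j.val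
      exact hpow i j
    · show t * a ^ (j - i).val = a ^ i.val * (t * a ^ j.val)
      rw [← mul_assoc, hta, mul_assoc, ← hpow, neg_add_eq_sub]
    · show t * a ^ (i + j).val = t * a ^ i.val * a ^ j.val
      rw [hpow, mul_assoc]
    · show a ^ (j - i).val = t * a ^ i.val * (t * a ^ j.val)
      rw [mul_assoc, ← mul_assoc (a ^ i.val), hta, mul_assoc t, ← mul_assoc t t, ht, one_mul, ← hpow,
        neg_add_eq_sub]
  have hinj : Function.Injective f := by
    have hval : ∀ i j : ZMod n, a ^ i.val = a ^ j.val → i = j := fun i j h => by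
      rw [pow_eq_pow_iff_modEq, ha, Nat.ModEq, Nat.mod_eq_of_lt (ZMod.val_lt i),
        Nat.mod_eq_of_lt (ZMod.val_lt j)] at h
      exact ZMod.val_injective n h
    have hmix : ∀ i j : ZMod n, a ^ i.val ≠ t * a ^ j.val := fun i j h => htA (by
      rw [show t = a ^ i.val * (a ^ j.val)⁻¹ by rw [h, mul_inv_cancel_right]]
      exact mul_mem (pow_mem (Subgroup.mem_zpowers a) _)
        (inv_mem (pow_mem (Subgroup.mem_zpowers a) _)))
    rintro (i | i) (j | j) h
    · rw [hval i j h]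
    · exact absurd h (hmix i j)
    · exact absurd h.symm (hmix j i)
    · rw [hval i j (mul_left_cancel h)]
  have hcard : Nat.card G = Nat.card (DihedralGroup n) := by
    rw [DihedralGroup.nat_card, ← (Subgroup.zpowers a).card_mul_index, Nat.card_zpowers, ha, hidx,
      mul_comm]
  have hbij : Function.Bijective f :=
    (Nat.bijective_iff_injective_and_card f).2 ⟨hinj, hcard.symm⟩
  exact ⟨(MulEquiv.ofBijective (MonoidHom.mk' f hf) hbij).symm⟩

theorem HT.cyclic_out [Finite V] {p : ℕ} (h : HT ρ p) (hp : p ≠ 2) (hG : IsCyclic G) : False := by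
  haveI := hG
  haveI := Fact.mk h.prime
  haveI := h.nontriv
  obtain ⟨v, hv⟩ := exists_ne (0 : V)
  have hne := h.nsr v hv
  have hdvd : p ∣ Nat.card (Stab ρ v) :=
    (h.pgroup.to_subgroup _).card_eq_or_dvd.resolve_left fun h1 => hne (Subgroup.eq_bot_of_card_eq _ h1)
  obtain ⟨⟨x, hx⟩, hxo⟩ := exists_prime_orderOf_dvd_card' p hdvd
  have hxo' : orderOf x = p := by rw [← hxo, Subgroup.orderOf_mk]
  refine hv (h.central_fpf (z := x) ?_ (hxo' ▸ pow_orderOf_eq_one x) ?_ hx)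
  · exact Subgroup.mem_center_iff.2 fun g => IsMulCommutative.is_comm.comm g x
  · intro hx1
    rw [hx1, orderOf_one] at hxo'
    exact h.prime.one_lt.ne hxo'

theorem HT.cyclic_false [Finite V] {p : ℕ} (h : HT ρ p) (hG : IsCyclic G) : False := by
  rcases eq_or_ne p 2 with rfl | hp
  · haveI := hG
    haveI := Fact.mk h.prime
    haveI := h.nontriv
    obtain ⟨v, hv⟩ := exists_ne (0 : V)
    have hdvd : 2 ∣ Nat.card (Stab ρ v) :=
      (h.pgroup.to_subgroup _).card_eq_or_dvd.resolve_left fun h1 =>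
        h.nsr v hv (Subgroup.eq_bot_of_card_eq _ h1)
    obtain ⟨⟨x, hx⟩, hxo⟩ := exists_prime_orderOf_dvd_card' 2 hdvd
    have hxo' : orderOf x = 2 := by rw [← hxo, Subgroup.orderOf_mk]
    refine hv (h.central_fpf (z := x) ?_ (hxo' ▸ pow_orderOf_eq_one x) ?_ hx)
    · exact Subgroup.mem_center_iff.2 fun g => IsMulCommutative.is_comm.comm g x
    · intro hx1
      rw [hx1, orderOf_one] at hxo'
      omega
  · exact h.cyclic_out hp hG

theorem HT.cycData_cases [Finite V] (h : HT ρ 2) {a : G} {m : ℕ} (D : CycData a m) :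
    Nat.card V = q ^ 2 ∧ ∃ k : ℕ, q = 2 ^ k - 1 ∧
      (Nonempty (G ≃* DihedralGroup (2 ^ k)) ∨
        (Nat.card G = 2 ^ (k + 2) ∧ 2 ≤ k ∧ ∃ x y : G, orderOf x = 2 ^ (k + 1) ∧ orderOf y = 2 ∧
          y * x * y⁻¹ = x ^ (2 ^ k - 1))) := by
  classical
  haveI := h.nontriv
  set A := Subgroup.zpowers a with hA
  set z := a ^ 2 ^ (m - 1) with hz
  have hm1 : 1 ≤ m := le_trans (by norm_num) D.two_le
  have hz2 : z ^ 2 = 1 := by
    have := pow_z D.ord hm1 1
    simpa [hz] using this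
  have hz1 : z ≠ 1 := by
    intro hh
    have h3 := Nat.le_of_dvd (Nat.two_pow_pos _) (orderOf_dvd_of_pow_eq_one hh)
    rw [D.ord] at h3
    have := (Nat.pow_le_pow_iff_right (le_refl 2)).1 h3
    omega
  have hzA : z ∈ A := pow_mem (Subgroup.mem_zpowers a) _
  -- stabilisers avoid `A`
  have havoid : ∀ v : V, v ≠ 0 → ∀ x ∈ A, ρ x v = v → x = 1 := by
    intro v hv x hxA hx
    by_contra hx1
    obtain ⟨i, hi⟩ := mem_powers_iff_mem_zpowers.2 hxA
    simp only at hi
    obtain ⟨j, hj⟩ := h.pgroup x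
    have hex : ∃ j, x ^ 2 ^ j = 1 := ⟨j, hj⟩
    have hj' := Nat.find_spec hex
    obtain ⟨j', hje⟩ : ∃ j', Nat.find hex = j' + 1 := ⟨Nat.find hex - 1, by
      have : Nat.find hex ≠ 0 := fun h0 => hx1 (by rw [h0, pow_zero, pow_one] at hj'; exact hj')
      omega⟩
    have hy1 : x ^ 2 ^ j' ≠ 1 := Nat.find_min hex (by omega)
    have hy2 : (x ^ 2 ^ j') ^ 2 = 1 := by rw [← pow_mul, ← pow_succ, ← hje]; exact hj'
    have hyz : x ^ 2 ^ j' = z := by
      rw [← hi, ← pow_mul] at hy1 hy2 ⊢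
      rw [← pow_mul] at hy2
      have hd := orderOf_dvd_of_pow_eq_one hy2
      rw [D.ord, ← two_pow_half hm1] at hd
      rw [← mul_assoc] at hd
      obtain ⟨u, hu⟩ := Nat.dvd_of_mul_dvd_mul_right two_pos hd
      rw [hu, pow_mul, ← hz] at hy1 ⊢
      rcases Nat.even_or_odd u with ⟨u2, hu2⟩ | ⟨u2, hu2⟩
      · exact absurd (by rw [hu2, ← two_mul, pow_mul, hz2, one_pow]) hy1
      · rw [hu2, pow_succ, pow_mul, hz2, one_pow, one_mul]
    have hfix := pow_fixed hx (2 ^ j')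
    rw [hyz] at hfix
    exact hv (h.central_fpf D.z_central hz2 hz1 hfix)
  have hout : ∀ g k : G, g ∉ A → k ∉ A → g * k ∈ A := fun g k hg hk =>
    (Subgroup.mul_mem_iff_of_index_two D.index_two).2 ⟨fun h1 => absurd h1 hg, fun h1 => absurd h1 hk⟩
  have hinvol : ∀ v : V, v ≠ 0 → ∃ t, t ∉ A ∧ t * t = 1 ∧ ρ t v = v ∧
      ∀ g, ρ g v = v → g ≠ 1 → g = t := by
    intro v hv
    obtain ⟨t, ht, ht1⟩ : ∃ t ∈ Stab ρ v, t ≠ 1 := by
      by_contra hne
      push Not at hne
      exact h.nsr v hv ((Subgroup.eq_bot_iff_forall _).2 hne)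
    have htA : t ∉ A := fun hc => ht1 (havoid v hv t hc ht)
    have ht2 : t * t = 1 := havoid v hv _ (hout t t htA htA) (by rw [apply_mul, mem_stab.1 ht, mem_stab.1 ht])
    refine ⟨t, htA, ht2, ht, fun g hg hg1 => ?_⟩
    have hgA : g ∉ A := fun hc => hg1 (havoid v hv g hc hg)
    have : g * t = 1 := havoid v hv _ (hout g t hgA htA) (by rw [apply_mul, mem_stab.1 ht, hg])
    rw [mul_eq_one_iff_eq_inv] at this
    rw [this, inv_eq_of_mul_eq_one_right ht2]
  obtain ⟨v0, hv0⟩ := exists_ne (0 : V)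
  obtain ⟨t, htA, ht2, htv, -⟩ := hinvol v0 hv0
  obtain ⟨r, hr4, hr⟩ := D.conj t htA
  have hza : ∀ x : G, Commute x z := fun x => Subgroup.mem_center_iff.1 D.z_central x
  -- `t a t⁻¹ a` is `1` or `z`
  have hsq : 2 ^ m ∣ (r + 1) * (r - 1) := by
    have e : a ^ (r * r) = a ^ 1 := by
      rw [← conj_pow_nat hr, ← hr, pow_one]
      calc t * (t * a * t⁻¹) * t⁻¹ = (t * t) * a * (t * t)⁻¹ := by rw [mul_inv_rev]; group
        _ = a := by rw [ht2, inv_one, one_mul, mul_one]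
    rw [pow_eq_pow_iff_modEq, D.ord] at e
    have h2 := (Nat.modEq_iff_dvd' (Nat.one_le_iff_ne_zero.2 (Nat.mul_ne_zero (by omega) (by omega)))).1 e.symm
    rwa [show r * r - 1 = (r + 1) * (r - 1) by
      rw [← Nat.sq_sub_sq, sq, one_pow]] at h2
  obtain ⟨k, hk⟩ : ∃ k, r = 4 * k + 3 := ⟨r / 4, by omega⟩
  obtain ⟨l, hl⟩ : 2 ^ (m - 1) ∣ r + 1 := by
    rw [show r - 1 = (2 * k + 1) * 2 by omega, ← two_pow_half hm1, ← mul_assoc] at hsq
    exact (Nat.Coprime.pow_left (m - 1) (Nat.coprime_two_left.2 ⟨k, rfl⟩)).dvd_of_dvd_mul_right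
      (Nat.dvd_of_mul_dvd_mul_right two_pos hsq)
  have hta : t * a * t⁻¹ * a = z ^ l := by rw [hr, ← pow_succ, hl, pow_mul]
  -- conjugating `t` to `t z`
  obtain ⟨c, hcA, hc⟩ : ∃ c ∈ A, c * t * c⁻¹ = t * z := by
    refine ⟨a ^ 2 ^ (m - 2), pow_mem (Subgroup.mem_zpowers a) _, ?_⟩
    have e : a ^ 2 ^ (m - 2) * t * (a ^ 2 ^ (m - 2))⁻¹ =
        t * ((t * a ^ 2 ^ (m - 2) * t⁻¹) * (a ^ 2 ^ (m - 2))⁻¹) := by
      have ti : t⁻¹ = t := inv_eq_of_mul_eq_one_right ht2
      rw [ti]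
      simp only [← mul_assoc, ht2, one_mul]
    rw [e, conj_pow_nat hr]
    congr 1
    rw [mul_inv_eq_iff_eq_mul, hz, ← pow_add, pow_eq_pow_iff_modEq, D.ord]
    have h2 : 2 ^ (m - 1) = 2 ^ (m - 2) * 2 := by
      rw [← pow_succ, show m - 2 + 1 = m - 1 by have := D.two_le; omega]
    refine ((Nat.modEq_iff_dvd' ?_).2 ?_).symm
    · rw [h2, hk]
      calc 2 ^ (m - 2) * 2 + 2 ^ (m - 2) = 3 * 2 ^ (m - 2) := by ring
        _ ≤ (4 * k + 3) * 2 ^ (m - 2) := by gcongr; omega
    · refine ⟨k, ?_⟩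
      rw [hk, ← two_pow_half hm1, h2]
      exact Nat.sub_eq_of_eq_add (by ring)
  have hzneg : ∀ v, ρ z v = -v := fun v => by
    have h2 := h.central_fpf D.z_central hz2 hz1 (av_fixed hz2 v)
    simp only [av, Finset.sum_range_succ, Finset.sum_range_zero, zero_add, pow_zero, pow_one,
      map_one] at h2
    exact eq_neg_of_add_eq_zero_right h2
  -- fixed spaces of involutions outside
  have hfixcard : ∀ s : G, s ∉ A → s * s = 1 → (∃ c : G, c * s * c⁻¹ = s * z) →
      Nat.card {v : V | ρ s v = v} * Nat.card {v : V | ρ s v = v} = Nat.card V := by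
    rintro s hsA hs2 ⟨d, hd⟩
    have hss : ∀ v, ρ s (ρ s v) = v := fun v => by rw [← apply_mul, hs2, map_one]; rfl
    have hszfix : ∀ {y : V}, ρ (s * z) y = y ↔ ρ s y = -y := fun {y} => by
      rw [apply_mul, hzneg, map_neg]
      exact neg_eq_iff_eq_neg
    have e2 : Nat.card {v : V | ρ (s * z) v = v} = Nat.card {v : V | ρ s v = v} := by
      symm
      refine Nat.card_congr (Equiv.subtypeEquiv (ρ d).toEquiv fun v => ?_)
      show ρ s v = v ↔ ρ (s * z) (ρ d v) = ρ d v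
      rw [← hd, ← apply_mul, show d * s * d⁻¹ * d = d * s by group, apply_mul]
      exact (ρ d).injective.eq_iff.symm
    conv_lhs => arg 2; rw [← e2]
    rw [← Nat.card_prod]
    let f : {v : V | ρ s v = v} × {v : V | ρ (s * z) v = v} → V := fun x => (x.1 : V) + x.2
    refine Nat.card_congr (Equiv.ofBijective f ⟨?_, ?_⟩)
    · rintro ⟨⟨x1, h1⟩, ⟨x2, h2⟩⟩ ⟨⟨y1, h3⟩, ⟨y2, h4⟩⟩ hxy
      have hxy' : x1 + x2 = y1 + y2 := hxy
      have h5 := congrArg (ρ s) hxy'
      rw [map_add, map_add, h1, h3, hszfix.1 h2, hszfix.1 h4] at h5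
      have h6 : x1 = y1 := by
        have : 2 • (x1 - y1) = 0 := by
          rw [two_nsmul]
          linear_combination (norm := abel) hxy' + h5
        exact sub_eq_zero.1 (h.smul_eq_zero this)
      subst h6
      obtain rfl : x2 = y2 := add_left_cancel hxy'
      rfl
    · intro v
      have hinv : (2 : ZMod q) ≠ 0 := by exact_mod_cast h.ne_zero
      refine ⟨(⟨(2 : ZMod q)⁻¹ • (v + ρ s v), ?_⟩, ⟨(2 : ZMod q)⁻¹ • (v - ρ s v), ?_⟩), ?_⟩
      · show ρ s _ = _
        rw [map_smul, map_add, hss, add_comm]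
      · refine hszfix.2 ?_
        rw [map_smul, map_sub, hss, ← smul_neg, neg_sub]
      · show (2 : ZMod q)⁻¹ • (v + ρ s v) + (2 : ZMod q)⁻¹ • (v - ρ s v) = v
        rw [← smul_add, add_add_sub_cancel, ← two_smul (ZMod q) v, inv_smul_smul₀ hinv]
  -- the involutions outside
  set e := Nat.card {v : V | ρ t v = v} with he
  have hee : e * e = Nat.card V := hfixcard t htA ht2 ⟨c, hc⟩
  let Inv := {s : G // s ∉ A ∧ s * s = 1}
  have hconjall : ∀ s : G, s ∉ A → s * s = 1 → ∃ d : G, d * s * d⁻¹ = s * z := by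
    intro s hsA hs2
    refine ⟨c, ?_⟩
    have hts : t * s ∈ A := hout t s htA hsA
    have hcom : Commute c (t * s) := by
      obtain ⟨i, hi⟩ := hcA
      obtain ⟨j, hj⟩ := hts
      rw [← hi, ← hj]
      exact (Commute.refl a).zpow_zpow i j
    have e1 : s = t * (t * s) := by rw [← mul_assoc, ht2, one_mul]
    calc c * s * c⁻¹ = c * t * c⁻¹ * (c * (t * s) * c⁻¹) := by
          conv_lhs => rw [e1]
          group
      _ = s * z := by
        rw [hc, hcom.eq, mul_inv_cancel_right, mul_assoc t z, (hza (t * s)).symm.eq, ← mul_assoc,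
          ← mul_assoc, ht2, one_mul]
  have hsum : Nat.card Inv * (e - 1) = Nat.card V - 1 := by
    have hbij : Nat.card (Σ s : Inv, {v : V // v ≠ 0 ∧ ρ s.1 v = v}) =
        Nat.card {v : V // v ≠ 0} := by
      refine Nat.card_congr (Equiv.ofBijective (fun x => ⟨x.2.1, x.2.2.1⟩) ⟨?_, ?_⟩)
      · rintro ⟨⟨s, hsA, hs2⟩, ⟨v, hv, hsv⟩⟩ ⟨⟨s', hsA', hs2'⟩, ⟨v', hv', hsv'⟩⟩ hvv
        obtain rfl : v = v' := congrArg Subtype.val hvv
        obtain ⟨u, -, -, -, huniq⟩ := hinvol v hv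
        obtain rfl : s = s' := (huniq s hsv fun h1 => hsA (h1 ▸ one_mem _)).trans
          (huniq s' hsv' fun h1 => hsA' (h1 ▸ one_mem _)).symm
        rfl
      · rintro ⟨v, hv⟩
        obtain ⟨u, h1, h2, h3, -⟩ := hinvol v hv
        exact ⟨⟨⟨u, h1, h2⟩, ⟨v, hv, h3⟩⟩, rfl⟩
    have hfib : ∀ s : Inv, Nat.card {v : V // v ≠ 0 ∧ ρ s.1 v = v} = e - 1 := by
      intro s
      have hh := hfixcard s.1 s.2.1 s.2.2 (hconjall s.1 s.2.1 s.2.2)
      rw [← hee] at hh
      have h2 : Nat.card {v : V | ρ s.1 v = v} = e := Nat.mul_self_inj.1 hh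
      rw [← h2, Nat.card_coe_set_eq, ← Set.ncard_sdiff_singleton_of_mem
        (show (0 : V) ∈ {v : V | ρ s.1 v = v} from map_zero _), ← Nat.card_coe_set_eq]
      exact Nat.card_congr (Equiv.subtypeEquivRight fun v => by
        simp only [Set.mem_sdiff, Set.mem_ofPred_eq, Set.mem_singleton_iff]
        tauto)
    haveI : Fintype Inv := Fintype.ofFinite Inv
    rw [Nat.card_sigma, Finset.sum_congr rfl (fun s _ => hfib s), Finset.sum_const,
      smul_eq_mul, Finset.card_univ, ← Nat.card_eq_fintype_card] at hbij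
    rw [hbij]
    haveI : Fintype V := Fintype.ofFinite V
    rw [Nat.card_eq_fintype_card, Nat.card_eq_fintype_card, Fintype.card_subtype_compl,
      Fintype.card_subtype_eq]
  have he2 : 2 ≤ e := by
    rw [he, Nat.card_coe_set_eq]
    have : ({0, v0} : Set V) ⊆ {v : V | ρ t v = v} := by
      rintro u (rfl | rfl)
      · exact map_zero _
      · exact htv
    exact (Set.ncard_pair hv0.symm).ge.trans (Set.ncard_le_ncard this (Set.toFinite _))
  have hN : Nat.card Inv = e + 1 := by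
    have h3 : (e + 1) * (e - 1) = Nat.card V - 1 := by
      rw [← hee, ← Nat.sq_sub_sq, sq, one_pow]
    exact Nat.eq_of_mul_eq_mul_right (by omega) (hsum.trans h3.symm)
  obtain ⟨j, hj, hqe⟩ : ∃ j, 1 ≤ j ∧ e = q ^ j := by
    have h1 : e ∣ q ^ Module.finrank (ZMod q) V := by
      refine ⟨e, ?_⟩
      rw [hee, Module.natCard_eq_pow_finrank (K := ZMod q), Nat.card_zmod]
    obtain ⟨j, -, hj⟩ := (Nat.dvd_prime_pow Fact.out).1 h1
    refine ⟨j, ?_, hj⟩
    by_contra h0
    rw [show j = 0 by omega, pow_zero] at hj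
    omega
  have hq2 : q ≠ 2 := by
    intro h2
    have h0 := h.ne_zero
    rw [Ne, ZMod.natCast_eq_zero_iff] at h0
    exact h0 (dvd_of_eq h2)
  -- parametrisation of the outside
  have hout_pow : ∀ s : G, s ∉ A → ∃ i : ℕ, i < 2 ^ m ∧ s = a ^ i * t := by
    intro s hs
    obtain ⟨i, hi⟩ := mem_powers_iff_mem_zpowers.2 (hout s t hs htA)
    simp only at hi
    refine ⟨i % 2 ^ m, Nat.mod_lt _ (Nat.two_pow_pos _), ?_⟩
    rw [← D.ord, pow_mod_orderOf, hi, mul_assoc, ht2, mul_one]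
  have hsquare : ∀ i : ℕ, a ^ i * t * (a ^ i * t) = z ^ (l * i) := by
    intro i
    have e1 : a ^ i * t * (a ^ i * t) = a ^ i * (t * a ^ i * t⁻¹) * (t * t) := by group
    rw [e1, ht2, mul_one, conj_pow_nat hr, ← pow_add, show i + r * i = (r + 1) * i by ring, hl,
      mul_assoc, pow_mul]
  have hti : ∀ i : ℕ, a ^ i * t ∉ A := fun i hh =>
    htA (by simpa using mul_mem (inv_mem (pow_mem (Subgroup.mem_zpowers a) i)) hh)
  have hinj : ∀ i i' : ℕ, i < 2 ^ m → i' < 2 ^ m → a ^ i * t = a ^ i' * t → i = i' := by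
    intro i i' hi hi' hh
    have h1 := mul_right_cancel hh
    rw [pow_eq_pow_iff_modEq, D.ord, Nat.ModEq, Nat.mod_eq_of_lt hi, Nat.mod_eq_of_lt hi'] at h1
    exact h1
  haveI : NeZero (2 ^ m) := ⟨(Nat.two_pow_pos m).ne'⟩
  rcases Nat.even_or_odd l with ⟨l', hl'⟩ | ⟨l', hl'⟩
  · -- dihedral
    have hzl : ∀ i, z ^ (l * i) = 1 := fun i => by
      rw [hl', show (l' + l') * i = 2 * (l' * i) by ring, pow_mul, hz2, one_pow]
    have hcardI : Nat.card Inv = 2 ^ m := by
      rw [← Nat.card_fin (2 ^ m)]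
      refine (Nat.card_congr (Equiv.ofBijective
        (fun i : Fin (2 ^ m) => (⟨a ^ (i : ℕ) * t, hti i, by rw [hsquare, hzl]⟩ : Inv)) ⟨?_, ?_⟩)).symm
      · intro i i' hh
        exact Fin.ext (hinj _ _ i.2 i'.2 (congrArg Subtype.val hh))
      · rintro ⟨s, hs, -⟩
        obtain ⟨i, hi, hsi⟩ := hout_pow s hs
        exact ⟨⟨i, hi⟩, Subtype.ext hsi.symm⟩
    rw [hN, hqe] at hcardI
    have hj1 := succ_pow_two Fact.out hq2 hj hcardI
    rw [hj1, pow_one] at hcardI hqe
    refine ⟨by rw [← hee, hqe, sq], m, by omega, Or.inl (nonempty_dihedral_equiv D.ord ht2 htA ?_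
      D.index_two)⟩
    rw [hta, hl', ← two_mul, pow_mul, hz2, one_pow]
  · -- semidihedral
    have hzl : ∀ i, z ^ (l * i) = 1 ↔ Even i := fun i => by
      rw [hl', show (2 * l' + 1) * i = 2 * (l' * i) + i by ring, pow_add, pow_mul, hz2, one_pow,
        one_mul]
      constructor
      · intro hh
        by_contra ho
        obtain ⟨u, rfl⟩ := Nat.not_even_iff_odd.1 ho
        rw [pow_succ, pow_mul, hz2, one_pow, one_mul] at hh
        exact hz1 hh
      · rintro ⟨u, rfl⟩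
        rw [← two_mul, pow_mul, hz2, one_pow]
    have hcardI : Nat.card Inv = 2 ^ (m - 1) := by
      have h2m := two_pow_half hm1
      rw [← Nat.card_fin (2 ^ (m - 1))]
      refine (Nat.card_congr (Equiv.ofBijective
        (fun i : Fin (2 ^ (m - 1)) => (⟨a ^ (2 * (i : ℕ)) * t, hti _,
          by rw [hsquare, (hzl _).2 (even_two_mul _)]⟩ : Inv)) ⟨?_, ?_⟩)).symm
      · intro i i' hh
        have := hinj (2 * i) (2 * i') (by have := i.2; omega) (by have := i'.2; omega)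
          (congrArg Subtype.val hh)
        exact Fin.ext (by omega)
      · rintro ⟨s, hs, hs2⟩
        obtain ⟨i, hi, rfl⟩ := hout_pow s hs
        rw [hsquare, hzl] at hs2
        obtain ⟨u, rfl⟩ := hs2
        exact ⟨⟨u, by omega⟩, Subtype.ext (by simp [two_mul])⟩
    rw [hN, hqe] at hcardI
    have hj1 := succ_pow_two Fact.out hq2 hj hcardI
    rw [hj1, pow_one] at hcardI hqe
    have hm3 : 3 ≤ m := by
      by_contra h3
      rw [show m = 2 by have := D.two_le; omega] at hl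
      rw [hk, hl'] at hl
      omega
    refine ⟨by rw [← hee, hqe, sq], m - 1, by omega, Or.inr ⟨?_, by omega, a, t, ?_, ?_, ?_⟩⟩
    · rw [show m - 1 + 2 = m + 1 by omega, pow_succ, ← (Subgroup.zpowers a).card_mul_index,
        Nat.card_zpowers, D.ord, D.index_two]
    · rw [D.ord, show m - 1 + 1 = m by omega]
    · exact orderOf_eq_prime (by rw [sq, ht2]) fun h1 => htA (h1 ▸ one_mem _)
    · rw [hr, pow_eq_pow_iff_modEq, D.ord]
      refine ((Nat.modEq_iff_dvd' ?_).2 ?_).symm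
      · have : 2 ^ (m - 1) ≤ r + 1 := Nat.le_of_dvd (by omega) ⟨l, hl⟩
        omega
      · refine ⟨l', ?_⟩
        have hp : 0 < 2 ^ (m - 1) := Nat.two_pow_pos _
        rw [show r - (2 ^ (m - 1) - 1) = (r + 1) - 2 ^ (m - 1) by omega, hl, hl', ← two_pow_half hm1]
        exact Nat.sub_eq_of_eq_add (by ring)

end CfsgLib.HalfTransP
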