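import Mathlib.GroupTheory.GroupAction.Quotient
import Mathlib.GroupTheory.PGroup
import Mathlib.FieldTheory.Finite.Basic
import Mathlib.LinearAlgebra.FiniteDimensional.Basic
import Mathlib.Tactic

/-!
# Half-transitive linear `p`-groups: averages and first facts
-/

set_option maxHeartbeats 400000
set_option autoImplicit false

namespace CfsgLib.HalfTransP

variable {q : ℕ} [Fact q.Prime] {V : Type*} [AddCommGroup V] [Module (ZMod q) V]
variable {G : Type*} [Group G] (ρ : G →* (V ≃ₗ[ZMod q] V))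

def Stab (v : V) : Subgroup G where
  carrier := {g | ρ g v = v}
  one_mem' := by simp
  mul_mem' {a b} ha hb := by
    simp only [Set.mem_ofPred_eq] at *
    rw [map_mul, LinearEquiv.mul_apply, hb, ha]
  inv_mem' {a} ha := by
    simp only [Set.mem_ofPred_eq] at *
    have h : ρ (a⁻¹ * a) v = v := by simp
    rw [map_mul, LinearEquiv.mul_apply, ha] at h
    exact h

def av (p : ℕ) (x : G) (v : V) : V := ∑ i ∈ Finset.range p, ρ (x ^ i) v

variable {ρ}

theorem mem_stab {g : G} {v : V} : g ∈ Stab ρ v ↔ ρ g v = v := Iff.rfl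

theorem apply_inv {g : G} {v w : V} (h : ρ g v = w) : ρ g⁻¹ w = v := by
  rw [← h, ← LinearEquiv.mul_apply, ← map_mul, inv_mul_cancel, map_one]
  rfl

theorem apply_mul (g h : G) (v : V) : ρ (g * h) v = ρ g (ρ h v) := by
  rw [map_mul, LinearEquiv.mul_apply]

theorem pow_fixed {x : G} {v : V} (h : ρ x v = v) (i : ℕ) : ρ (x ^ i) v = v :=
  mem_stab.1 (pow_mem (mem_stab.2 h) i)

theorem av_fixed {p : ℕ} {x : G} (hx : x ^ p = 1) (v : V) : ρ x (av ρ p x v) = av ρ p x v := by
  unfold av
  rw [map_sum]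
  have e : ∀ i, ρ x (ρ (x ^ i) v) = ρ (x ^ (i + 1)) v := fun i => by rw [pow_succ', apply_mul]
  simp only [e]
  have h1 := Finset.sum_range_succ (fun i => ρ (x ^ i) v) p
  have h2 := Finset.sum_range_succ' (fun i => ρ (x ^ i) v) p
  rw [hx, h2, pow_zero] at h1
  exact add_right_cancel h1

theorem av_of_fixed {p : ℕ} {x : G} {v : V} (h : ρ x v = v) : av ρ p x v = p • v := by
  unfold av
  simp only [pow_fixed h, Finset.sum_const, Finset.card_range]

theorem av_add {p : ℕ} (x : G) (v w : V) : av ρ p x (v + w) = av ρ p x v + av ρ p x w := by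
  unfold av
  simp only [map_add, Finset.sum_add_distrib]

theorem av_comm {p : ℕ} {x g : G} (h : Commute g x) (v : V) :
    ρ g (av ρ p x v) = av ρ p x (ρ g v) := by
  unfold av
  rw [map_sum]
  refine Finset.sum_congr rfl fun i _ => ?_
  rw [← apply_mul, (h.pow_right i).eq, apply_mul]

theorem av_congr {p : ℕ} {x y : G} {v : V} (h : ρ x v = ρ y v) (hxy : Commute x y) :
    av ρ p x v = av ρ p y v := by
  refine Finset.sum_congr rfl fun i hi => ?_
  clear hi
  induction i with
  | zero => simp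
  | succ i ih =>
    rw [pow_succ', apply_mul, ih, ← apply_mul, (hxy.pow_right i).eq, apply_mul, h, ← apply_mul,
      pow_succ]

variable (ρ)

/-- The standing hypotheses: faithful, equal non-trivial stabilisers, coprime characteristic. -/
structure HT (p : ℕ) : Prop where
  prime : p.Prime
  pgroup : IsPGroup p G
  inj : Function.Injective ρ
  half : ∀ v w : V, v ≠ 0 → w ≠ 0 → Nat.card (Stab ρ v) = Nat.card (Stab ρ w)
  nsr : ∀ v : V, v ≠ 0 → Stab ρ v ≠ ⊥
  ne_zero : (p : ZMod q) ≠ 0
  nontriv : Nontrivial V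

variable {ρ}

theorem half_of_orbits [Finite G] (h : ∀ v w : V, v ≠ 0 → w ≠ 0 →
      Nat.card {u : V | ∃ g : G, ρ g v = u} = Nat.card {u : V | ∃ g : G, ρ g w = u})
    (v w : V) (hv : v ≠ 0) (hw : w ≠ 0) : Nat.card (Stab ρ v) = Nat.card (Stab ρ w) := by
  letI : MulAction G V :=
    { smul := fun g v => ρ g v
      one_smul := fun v => by show ρ 1 v = v; simp
      mul_smul := fun g k v => apply_mul g k v }
  have key : ∀ v : V, Nat.card {u : V | ∃ g : G, ρ g v = u} * Nat.card (Stab ρ v) = Nat.card G := by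
    intro v
    have e : Stab ρ v = MulAction.stabilizer G v := by ext g; exact Iff.rfl
    have e2 : {u : V | ∃ g : G, ρ g v = u} = MulAction.orbit G v := by
      ext u; exact Iff.rfl
    rw [e2, e, Nat.card_congr (MulAction.orbitEquivQuotientStabilizer G v)]
    exact (Subgroup.card_eq_card_quotient_mul_card_subgroup _).symm
  have h1 := key v
  rw [h v w hv hw, ← key w] at h1
  refine Nat.eq_of_mul_eq_mul_left ?_ h1
  by_contra h2
  rw [Nat.le_zero.1 (not_lt.1 h2), zero_mul] at h1
  have h3 := key w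
  rw [Nat.le_zero.1 (not_lt.1 h2), zero_mul] at h3
  exact Nat.card_pos.ne h3

theorem ne_zero_char [Finite G] [Finite V] [Nontrivial V] {p : ℕ} (hp : p.Prime)
    (hG : IsPGroup p G) (hinj : Function.Injective ρ)
    (hhalf : ∀ v w : V, v ≠ 0 → w ≠ 0 → Nat.card (Stab ρ v) = Nat.card (Stab ρ w))
    (hnsr : ∀ v : V, v ≠ 0 → Stab ρ v ≠ ⊥) : (p : ZMod q) ≠ 0 := by
  intro h0
  rw [ZMod.natCast_eq_zero_iff] at h0 <;> try exact (Fact.out : q.Prime).ne_zero
  have hpq : q = p := (Nat.prime_dvd_prime_iff_eq Fact.out hp).1 h0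
  haveI := Fact.mk hp
  letI : MulAction G V :=
    { smul := fun g v => ρ g v
      one_smul := fun v => by show ρ 1 v = v; simp
      mul_smul := fun g k v => apply_mul g k v }
  have hV : p ∣ Nat.card V := by
    rw [Module.natCard_eq_pow_finrank (K := ZMod q), Nat.card_zmod]
    exact dvd_pow (dvd_of_eq hpq.symm) Module.finrank_pos.ne'
  obtain ⟨v, hv, hv0⟩ := hG.exists_fixed_point_of_prime_dvd_card_of_fixed_point V hV
    (a := (0 : V)) (fun g => map_zero (ρ g))
  have htop : Nat.card (Stab ρ v) = Nat.card G := by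
    have : Stab ρ v = ⊤ := eq_top_iff.2 fun g _ => hv g
    rw [this, Subgroup.card_top]
  refine hnsr v hv0.symm ?_
  rw [Subgroup.eq_bot_iff_forall]
  intro g _
  apply hinj
  ext w
  rcases eq_or_ne w 0 with rfl | hw
  · simp
  · have h2 : Stab ρ w = ⊤ :=
      Subgroup.eq_top_of_card_eq _ ((hhalf w v hw hv0.symm).trans htop)
    rw [map_one]
    exact mem_stab.1 (h2 ▸ Subgroup.mem_top g)

variable {p : ℕ}

theorem HT.smul_eq_zero (h : HT ρ p) {v : V} (hv : p • v = 0) : v = 0 := by
  rw [← Nat.cast_smul_eq_nsmul (ZMod q)] at hv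
  exact (_root_.smul_eq_zero.1 hv).resolve_left h.ne_zero

theorem HT.eq_one (h : HT ρ p) {g : G} (hg : ∀ v, ρ g v = v) : g = 1 := by
  apply h.inj
  ext v
  rw [hg, map_one]
  rfl

theorem HT.eq_of_le [Finite G] (h : HT ρ p) {v w : V} (hv : v ≠ 0) (hw : w ≠ 0)
    (hle : Stab ρ v ≤ Stab ρ w) : Stab ρ v = Stab ρ w :=
  Subgroup.eq_of_le_of_card_ge hle (h.half w v hw hv).le

/-- A central element of order `p` fixes only the zero vector. -/
theorem HT.central_fpf [Finite G] (h : HT ρ p) {z : G} (hz : z ∈ Subgroup.center G)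
    (hzp : z ^ p = 1) (hz1 : z ≠ 1) {v : V} (hv : ρ z v = v) : v = 0 := by
  by_contra hv0
  obtain ⟨u, hu, hu0⟩ : ∃ u : V, av ρ p z u = 0 ∧ u ≠ 0 := by
    by_contra hne
    push Not at hne
    refine hz1 (h.eq_one fun w => ?_)
    have h2 : av ρ p z (ρ z w - w) = 0 := by
      have h4 := av_add (ρ := ρ) (p := p) z (ρ z w - w) w
      rw [sub_add_cancel, ← av_comm (Commute.refl z), av_fixed hzp] at h4
      exact left_eq_add.1 (h4.trans (add_comm _ _))
    exact sub_eq_zero.1 (hne _ h2)
  have hcom : ∀ g : G, Commute g z := fun g => Subgroup.mem_center_iff.1 hz g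
  have key : ∀ w u : V, ρ z w = w → av ρ p z u = 0 → w ≠ 0 → u ≠ 0 →
      Stab ρ w = Stab ρ u := by
    intro w u hw hu hw0 hu0
    have hwu : w + u ≠ 0 := by
      intro h0
      have h2 := congrArg (av ρ p z) h0
      rw [av_add, hu, add_zero, av_of_fixed hw] at h2
      refine hw0 (h.smul_eq_zero (h2.trans ?_))
      simp [av]
    have hsub : ∀ g ∈ Stab ρ (w + u), g ∈ Stab ρ w ∧ g ∈ Stab ρ u := by
      intro g hg
      rw [mem_stab, map_add] at hg
      have h2 := congrArg (av ρ p z) hg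
      have e1 : av ρ p z (ρ g w) = p • ρ g w :=
        av_of_fixed (by rw [← apply_mul, ← (hcom g).eq, apply_mul, hw])
      have e2 : av ρ p z (ρ g u) = 0 := by rw [← av_comm (hcom g), hu, map_zero]
      rw [av_add, av_add, e1, e2, av_of_fixed hw, hu, add_zero, add_zero] at h2
      have h3 : ρ g w = w := by
        have h4 : p • (ρ g w - w) = 0 := by rw [smul_sub, h2, sub_self]
        exact sub_eq_zero.1 (h.smul_eq_zero h4)
      exact ⟨mem_stab.2 h3, mem_stab.2 (by rw [h3] at hg; exact add_left_cancel hg)⟩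
    rw [← h.eq_of_le hwu hw0 fun g hg => (hsub g hg).1,
      ← h.eq_of_le hwu hu0 fun g hg => (hsub g hg).2]
  refine h.nsr v hv0 ((Subgroup.eq_bot_iff_forall _).2 fun g hg => h.eq_one fun w => ?_)
  have hfix : ∀ w : V, ρ z w = w → ρ g w = w := by
    intro w hw
    rcases eq_or_ne w 0 with rfl | hw0
    · simp
    · have h2 : Stab ρ v = Stab ρ w := (key v u hv hu hv0 hu0).trans (key w u hw hu hw0 hu0).symm
      exact mem_stab.1 (h2 ▸ hg)
  have hker : ∀ x : V, av ρ p z x = 0 → ρ g x = x := by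
    intro x hx
    rcases eq_or_ne x 0 with rfl | hx0
    · simp
    · exact mem_stab.1 (key v x hv hx hv0 hx0 ▸ hg)
  have h1 := hfix _ (av_fixed hzp w)
  have h2 := hker (p • w - av ρ p z w) (by
    have e := av_add (ρ := ρ) (p := p) z (p • w - av ρ p z w) (av ρ p z w)
    rw [sub_add_cancel, av_of_fixed (av_fixed hzp w)] at e
    have e2 : av ρ p z (p • w) = p • av ρ p z w := by
      unfold av
      rw [Finset.smul_sum]
      exact Finset.sum_congr rfl fun i _ => map_nsmul _ _ _
    rw [e2] at e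
    exact right_eq_add.1 e)
  have h3 : ρ g (p • w) = p • w := by
    have e : p • w = (p • w - av ρ p z w) + av ρ p z w := (sub_add_cancel _ _).symm
    rw [e, map_add, h1, h2]
  rw [map_nsmul] at h3
  exact sub_eq_zero.1 (h.smul_eq_zero (by rw [smul_sub, h3, sub_self]))

end CfsgLib.HalfTransP
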