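import Cfsg.Agent.HalfTransP.Monomial
import Cfsg.Agent.InvChar.UniqueInvolution
import Cfsg.Agent.Solvable.PGroupRank

/-!
# Two-groups without a normal four-group
-/

set_option maxHeartbeats 400000
set_option autoImplicit false
set_option linter.style.haveILetI false

namespace CfsgLib.HalfTransP

variable {G : Type*} [Group G] [Finite G]

def HasNormalSq (G : Type*) [Group G] (p : ℕ) : Prop :=
  ∃ B : Subgroup G, B.Normal ∧ (∀ x ∈ B, ∀ y ∈ B, x * y = y * x) ∧ (∀ x ∈ B, x ^ p = 1) ∧
    Nat.card B = p ^ 2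

/-- A cyclic subgroup of index two on which the outside acts by exponents `3 mod 4`. -/
structure CycData (a : G) (m : ℕ) : Prop where
  ord : orderOf a = 2 ^ m
  two_le : 2 ≤ m
  index_two : (Subgroup.zpowers a).index = 2
  conj : ∀ g : G, g ∉ Subgroup.zpowers a → ∃ r : ℕ, r % 4 = 3 ∧ g * a * g⁻¹ = a ^ r
  z_central : a ^ 2 ^ (m - 1) ∈ Subgroup.center G

theorem conj_pow_nat {a g : G} {r : ℕ} (h : g * a * g⁻¹ = a ^ r) (i : ℕ) :
    g * a ^ i * g⁻¹ = a ^ (r * i) := by
  rw [← conj_pow, h, ← pow_mul]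

theorem two_pow_half {m : ℕ} (hm : 1 ≤ m) : 2 ^ (m - 1) * 2 = 2 ^ m := by
  rw [← pow_succ, Nat.sub_add_cancel hm]

theorem pow_z {a : G} {m : ℕ} (ha : orderOf a = 2 ^ m) (hm : 1 ≤ m) (i : ℕ) :
    (a ^ 2 ^ (m - 1)) ^ (2 * i) = 1 := by
  rw [← pow_mul, ← mul_assoc, two_pow_half hm, pow_mul, ← ha, pow_orderOf_eq_one, one_pow]

theorem normalSq_or_cycData (hG : IsPGroup 2 G) :
    IsCyclic G ∨ HasNormalSq G 2 ∨ ∃ (a : G) (m : ℕ), CycData a m := by
  classical
  obtain ⟨A, hAn, hAc, hC⟩ := CfsgLib.UniqueInvol.exists_self_centralizing hG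
  haveI := hAn
  haveI : IsMulCommutative A := ⟨⟨fun x y => Subtype.ext (hAc x x.2 y y.2)⟩⟩
  by_cases hAcyc : IsCyclic A
  swap
  · refine Or.inr (Or.inl ?_)
    -- the elements of order two of `A`
    let Ω : Subgroup G :=
      { carrier := {x | x ∈ A ∧ x ^ 2 = 1}
        one_mem' := ⟨one_mem _, one_pow 2⟩
        mul_mem' := fun {x y} hx hy => ⟨mul_mem hx.1 hy.1, by
          rw [(show Commute x y from hAc x hx.1 y hy.1).mul_pow, hx.2, hy.2, one_mul]⟩
        inv_mem' := fun {x} hx => ⟨inv_mem hx.1, by rw [inv_pow, hx.2, inv_one]⟩ }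
    haveI hΩn : Ω.Normal := ⟨fun x hx g => ⟨hAn.conj_mem x hx.1 g, by rw [conj_pow, hx.2, mul_one, mul_inv_cancel]⟩⟩
    obtain ⟨k, hk⟩ := IsPGroup.iff_card.1 (hG.to_subgroup Ω)
    have hk2 : 2 ≤ k := by
      by_contra h
      apply hAcyc
      have hΩ : Nat.card Ω ≤ 2 := by
        rw [hk]
        calc 2 ^ k ≤ 2 ^ 1 := Nat.pow_le_pow_right (by norm_num) (by omega)
          _ = 2 := by norm_num
      have hu : ∀ x y : A, orderOf x = 2 → orderOf y = 2 → y ∈ Subgroup.zpowers x := by
        intro x y hx hy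
        suffices y = x by rw [this]; exact Subgroup.mem_zpowers x
        by_contra hne
        have hmem : ∀ u : A, orderOf u = 2 → (u : G) ∈ Ω ∧ (1 : G) ≠ u := fun u hu =>
          ⟨⟨u.2, by rw [← SubmonoidClass.coe_pow, ← hu, pow_orderOf_eq_one]; rfl⟩,
            fun h => by rw [show u = 1 from Subtype.ext h.symm, orderOf_one] at hu; omega⟩
        have h3 : ({1, (x : G), (y : G)} : Set G) ⊆ (Ω : Set G) := by
          rintro u (rfl | rfl | rfl)
          · exact one_mem _
          · exact (hmem x hx).1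
          · exact (hmem y hy).1
        have h4 := Set.ncard_le_ncard h3 (Set.toFinite _)
        rw [Set.ncard_insert_of_notMem (by
          rintro (h | h)
          · exact (hmem x hx).2 h
          · exact (hmem y hy).2 h) (Set.toFinite _),
          Set.ncard_pair (fun h => hne (Subtype.ext h.symm)), ← Nat.card_coe_set_eq] at h4
        exact absurd (h4.trans hΩ) (by norm_num)
      obtain ⟨g0, hg0⟩ := CfsgLib.UniqueInvol.exists_generator_of_comm (p := 2)
        (hG.to_subgroup A) (A := ⊤) (fun x _ y _ => Subtype.ext (hAc x x.2 y y.2)) hu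
      exact ⟨⟨g0, fun u => Subgroup.mem_zpowers_iff.1 (hg0 ▸ Subgroup.mem_top u : u ∈ Subgroup.zpowers g0)⟩⟩
    obtain ⟨B, hBn, hBΩ, hB1, hB2, -⟩ := CfsgLib.PGroupRank.exists_normal_le hG Ω hk 2 hk2
    exact ⟨B, hBn, fun x hx y hy => hAc x (hBΩ hx).1 y (hBΩ hy).1, fun x hx => (hBΩ hx).2,
      le_antisymm hB2 hB1⟩
  -- `A` is cyclic
  obtain ⟨⟨a, haA⟩, ha⟩ := hAcyc.exists_generator
  have hA : A = Subgroup.zpowers a := by
    refine le_antisymm (fun x hx => ?_) (Subgroup.zpowers_le.2 haA)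
    obtain ⟨k, hk⟩ := ha ⟨x, hx⟩
    exact ⟨k, congrArg Subtype.val hk⟩
  subst hA
  obtain ⟨m, hm⟩ := IsPGroup.iff_card.1 (hG.to_subgroup (Subgroup.zpowers a))
  rw [Nat.card_zpowers] at hm
  rcases Nat.lt_or_ge m 2 with hm2 | hm2
  · refine Or.inl ?_
    have hcen : ∀ g : G, g ∈ Subgroup.centralizer (Subgroup.zpowers a : Set G) := by
      intro g
      have hga : g * a * g⁻¹ = a := by
        have h1 : g * a * g⁻¹ ∈ Subgroup.zpowers a := hAn.conj_mem a (Subgroup.mem_zpowers a) g
        have h2 : orderOf a ∣ 2 := by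
          rw [hm]
          exact pow_dvd_pow 2 (show m ≤ 1 by omega)
        obtain ⟨k, hk⟩ := mem_powers_iff_mem_zpowers.2 h1
        simp only at hk
        rcases Nat.even_or_odd k with ⟨j, hj⟩ | ⟨j, hj⟩
        · rw [hj, ← two_mul, pow_mul, orderOf_dvd_iff_pow_eq_one.1 h2, one_pow] at hk
          have h4 : a = 1 := by
            have h5 := congrArg (fun x => g⁻¹ * x * g) hk
            simpa [mul_assoc] using h5.symm
          simp [h4]
        · rw [hj, pow_succ, pow_mul, orderOf_dvd_iff_pow_eq_one.1 h2, one_pow, one_mul] at hk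
          exact hk.symm
      rw [Subgroup.mem_centralizer_iff]
      rintro x ⟨k, rfl⟩
      exact ((Commute.zpow_right (mul_inv_eq_iff_eq_mul.1 hga : Commute g a) k).eq).symm
    exact ⟨⟨a, fun x => hC (hcen x)⟩⟩
  by_cases hall : ∀ g : G, g ∈ Subgroup.zpowers a
  · exact Or.inl ⟨⟨a, hall⟩⟩
  by_cases hB : HasNormalSq G 2
  · exact Or.inr (Or.inl hB)
  refine Or.inr (Or.inr ⟨a, m, ?_⟩)
  have hexp : ∀ g : G, ∃ r : ℕ, Odd r ∧ g * a * g⁻¹ = a ^ r := by
    intro g
    have h1 : g * a * g⁻¹ ∈ Subgroup.zpowers a := hAn.conj_mem a (Subgroup.mem_zpowers a) g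
    obtain ⟨k, hk⟩ := mem_powers_iff_mem_zpowers.2 h1
    simp only at hk
    refine ⟨k, ?_, hk.symm⟩
    rw [← Nat.not_even_iff_odd]
    rintro ⟨j, rfl⟩
    have h2 : (g * a * g⁻¹) ^ 2 ^ (m - 1) = 1 := by
      rw [← hk, ← pow_mul, show (j + j) * 2 ^ (m - 1) = j * 2 ^ m by
        rw [← two_pow_half (show 1 ≤ m by omega)]; ring, mul_comm, pow_mul, ← hm,
        pow_orderOf_eq_one, one_pow]
    rw [conj_pow, mul_inv_eq_one, mul_eq_left] at h2
    have h3 := Nat.le_of_dvd (Nat.two_pow_pos _) (orderOf_dvd_of_pow_eq_one h2)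
    rw [hm] at h3
    have := (Nat.pow_le_pow_iff_right (le_refl 2)).1 h3
    omega
  set z := a ^ 2 ^ (m - 1) with hz
  have hzc : z ∈ Subgroup.center G := by
    rw [Subgroup.mem_center_iff]
    intro g
    obtain ⟨r, ⟨j, hj⟩, hr⟩ := hexp g
    have h2 : g * z * g⁻¹ = z := by
      rw [hz, conj_pow_nat hr, mul_comm r, pow_mul, hj, pow_succ, pow_z hm (by omega), one_mul]
    exact mul_inv_eq_iff_eq_mul.1 h2
  -- the exponents
  have key : ∀ g : G, g ∉ Subgroup.zpowers a → g ^ 2 ∈ Subgroup.zpowers a → ∀ r : ℕ,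
      g * a * g⁻¹ = a ^ r → Odd r → r % 4 = 3 := by
    intro g hg hg2 r hr hodd
    by_contra hne
    have hr4 : r % 4 = 1 := by
      rcases hodd with ⟨k, hk⟩
      omega
    obtain ⟨i0, hi0⟩ := mem_powers_iff_mem_zpowers.2 hg2
    simp only at hi0
    have hsq : a ^ (r * r) = a ^ 1 := by
      rw [← conj_pow_nat hr, ← hr, pow_one]
      calc g * (g * a * g⁻¹) * g⁻¹ = g ^ 2 * a * (g ^ 2)⁻¹ := by rw [sq, mul_inv_rev]; group
        _ = a := by rw [← hi0, (Commute.pow_self a i0).eq, mul_inv_cancel_right]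
    rw [pow_eq_pow_iff_modEq, hm] at hsq
    obtain ⟨k, hk⟩ : ∃ k, r = 4 * k + 1 := ⟨r / 4, by omega⟩
    have hd : 2 ^ m ∣ r * r - 1 := (Nat.modEq_iff_dvd' (by nlinarith)).1 hsq.symm
    rw [show r * r - 1 = (4 * k) * (2 * (2 * k + 1)) by
      rw [hk]; exact Nat.sub_eq_of_eq_add (by ring)] at hd
    have hd2 : 2 ^ (m - 1) ∣ 4 * k := by
      rw [← two_pow_half (show 1 ≤ m by omega), show 4 * k * (2 * (2 * k + 1)) =
        4 * k * (2 * k + 1) * 2 by ring] at hd
      have h2 := Nat.dvd_of_mul_dvd_mul_right two_pos hd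
      exact (Nat.Coprime.pow_left (m - 1) (Nat.coprime_two_left.2 ⟨k, rfl⟩)).dvd_of_dvd_mul_right h2
    obtain ⟨l, hl⟩ := hd2
    have haz : g * a * g⁻¹ = a * z ^ l := by
      rw [hr, hk, hz, ← pow_mul, ← hl, pow_succ']
    rcases Nat.even_or_odd l with ⟨l', hl'⟩ | ⟨l', hl'⟩
    · rw [hl', ← two_mul, hz, pow_z hm (by omega), mul_one] at haz
      refine hg (hC ?_)
      rw [Subgroup.mem_centralizer_iff]
      rintro x ⟨i, rfl⟩
      exact ((Commute.zpow_right (mul_inv_eq_iff_eq_mul.1 haz : Commute g a) i).eq).symm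
    rw [hl', pow_succ, hz, pow_z hm (by omega), one_mul, ← hz] at haz
    have hm3 : 3 ≤ m := by
      by_contra h
      rw [show m = 2 by omega] at hl
      omega
    -- `g ^ 2` is an even power
    obtain ⟨i, hi⟩ : ∃ i, g ^ 2 = a ^ (2 * i) := by
      rcases Nat.even_or_odd i0 with ⟨i, hi⟩ | ⟨i, hi⟩
      · exact ⟨i, by rw [← hi0, hi, two_mul]⟩
      · exfalso
        have h2 : g * a ^ i0 * g⁻¹ = a ^ i0 := by rw [hi0]; group
        rw [← conj_pow, haz, (show Commute a z from (Subgroup.mem_center_iff.1 hzc a)).mul_pow,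
          mul_eq_left, hi, pow_succ, hz, pow_z hm (by omega), one_mul] at h2
        have h3 := Nat.le_of_dvd (Nat.two_pow_pos _) (orderOf_dvd_of_pow_eq_one h2)
        rw [hm] at h3
        have := (Nat.pow_le_pow_iff_right (le_refl 2)).1 h3
        omega
    have hza : ∀ x : G, Commute x z := fun x => Subgroup.mem_center_iff.1 hzc x
    have hz2 : z ^ 2 = 1 := by
      have := pow_z hm (show 1 ≤ m by omega) 1
      simpa [hz] using this
    have hz1 : z ≠ 1 := by
      intro h
      have h3 := Nat.le_of_dvd (Nat.two_pow_pos _) (orderOf_dvd_of_pow_eq_one h)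
      rw [hm] at h3
      have := (Nat.pow_le_pow_iff_right (le_refl 2)).1 h3
      omega
    -- an involution outside
    obtain ⟨t, ht, htA, hta⟩ : ∃ t : G, t * t = 1 ∧ t ∉ Subgroup.zpowers a ∧
        t * a * t⁻¹ = a * z := by
      set k : ℕ := i * 2 ^ (m - 1) + i * 2 ^ (m - 2) + (2 ^ m - 1) * i with hkdef
      refine ⟨a ^ k * g, ?_, fun h => hg ?_, ?_⟩
      · have e : a ^ k * g * (a ^ k * g) = a ^ k * (g * a ^ k * g⁻¹) * g ^ 2 := by group
        rw [e, hi, ← conj_pow, haz, (hza a).mul_pow, ← mul_assoc, ← pow_add,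
          mul_assoc, (hza (a ^ (2 * i))).symm.pow_left k |>.eq, ← mul_assoc, ← pow_add]
        have h4 : 2 ^ (m - 2) * 2 = 2 ^ (m - 1) := by
          rw [← pow_succ, show m - 2 + 1 = m - 1 by omega]
        have h5 := two_pow_half (show 1 ≤ m by omega)
        have h6 : (2 ^ m - 1) * i + i = 2 ^ m * i := by
          rw [Nat.sub_mul, one_mul, Nat.sub_add_cancel (Nat.le_mul_of_pos_left i (Nat.two_pow_pos m))]
        have h7 : k + k + 2 * i = 2 ^ (m - 1) * i + 2 ^ m * (3 * i) := by
          calc k + k + 2 * i = i * (2 ^ (m - 1) * 2) + i * (2 ^ (m - 2) * 2) +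
                2 * ((2 ^ m - 1) * i + i) := by rw [hkdef]; ring
            _ = _ := by rw [h4, h5, h6]; ring
        rw [h7, pow_add, pow_mul a (2 ^ m), ← hm, pow_orderOf_eq_one, one_pow, mul_one, pow_mul,
          ← hz, ← pow_add]
        have h8 : Even (i + k) := by
          rw [hkdef]
          have e1 : Even (i * 2 ^ (m - 1)) := (even_two.pow_of_ne_zero (by omega)).mul_left i
          have e2 : Even (i * 2 ^ (m - 2)) := (even_two.pow_of_ne_zero (by omega)).mul_left i
          have e3 : Even ((2 ^ m - 1) * i + i) := by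
            rw [h6]; exact (even_two.pow_of_ne_zero (by omega)).mul_right i
          have := (e1.add e2).add e3
          rwa [show i + (i * 2 ^ (m - 1) + i * 2 ^ (m - 2) + (2 ^ m - 1) * i) =
            i * 2 ^ (m - 1) + i * 2 ^ (m - 2) + ((2 ^ m - 1) * i + i) by ring]
        obtain ⟨u, hu⟩ := h8
        rw [hu, ← two_mul, pow_mul, hz2, one_pow]
      · have := mul_mem (inv_mem (pow_mem (Subgroup.mem_zpowers a) k)) h
        simpa using this
      · have e : a ^ k * g * a * (a ^ k * g)⁻¹ = a ^ k * (g * a * g⁻¹) * (a ^ k)⁻¹ := by group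
        rw [e, haz, ← mul_assoc, ← pow_succ, pow_succ', mul_assoc a, (hza (a ^ k)).eq, mul_assoc,
          mul_assoc, mul_inv_cancel, mul_one]
    apply hB
    have htz : Commute t z := hza t
    have hzz : z * z = 1 := by rw [← sq, hz2]
    let B : Subgroup G :=
      { carrier := {1, z, t, t * z}
        one_mem' := by simp
        mul_mem' := fun {x y} hx hy => by
          simp only [Set.mem_insert_iff, Set.mem_singleton_iff] at hx hy ⊢
          have e1 : z * t = t * z := htz.eq.symm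
          have e2 : t * (t * z) = z := by rw [← mul_assoc, ht, one_mul]
          have e3 : t * z * z = t := by rw [mul_assoc, hzz, mul_one]
          have e4 : z * (t * z) = t := by rw [← mul_assoc, e1, e3]
          have e5 : t * z * t = z := by rw [mul_assoc, e1, e2]
          have e6 : t * z * (t * z) = 1 := by rw [mul_assoc, e4, ht]
          rcases hx with rfl | rfl | rfl | rfl <;> rcases hy with rfl | rfl | rfl | rfl <;>
            simp [hzz, ht, e1, e2, e3, e4, e5, e6]
        inv_mem' := fun {x} hx => by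
          simp only [Set.mem_insert_iff, Set.mem_singleton_iff] at hx ⊢
          have i1 : z⁻¹ = z := inv_eq_of_mul_eq_one_right hzz
          have i2 : t⁻¹ = t := inv_eq_of_mul_eq_one_right ht
          rcases hx with rfl | rfl | rfl | rfl
          · simp
          · simp [i1]
          · simp [i2]
          · right; right; right
            rw [mul_inv_rev, i1, i2, htz.eq] }
    have hmemB : ∀ x, x ∈ B ↔ x = 1 ∨ x = z ∨ x = t ∨ x = t * z := fun x => by
      show x ∈ ({1, z, t, t * z} : Set G) ↔ _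
      simp
    have hconj : ∀ x : G, x * t * x⁻¹ = t ∨ x * t * x⁻¹ = t * z := by
      intro x
      obtain ⟨r', ⟨j, hj⟩, hr'⟩ := hexp x
      have h1 : (x * t * x⁻¹) * a ^ r' * (x * t * x⁻¹)⁻¹ = t * a ^ r' * t⁻¹ := by
        have e : (x * t * x⁻¹) * a ^ r' * (x * t * x⁻¹)⁻¹ = x * (t * a * t⁻¹) * x⁻¹ := by
          rw [← hr']; group
        rw [e, hta, ← conj_pow, hta, (hza a).mul_pow, ← mul_assoc, hj, pow_succ z, pow_mul, hz2,
          one_pow, one_mul, mul_assoc, (hza x⁻¹).symm.eq, ← mul_assoc, hr', ← hj]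
      set u := t⁻¹ * (x * t * x⁻¹) with hu
      have h2 : u ∈ Subgroup.zpowers a := by
        apply hC
        have hua : Commute u (a ^ r') := by
          show u * a ^ r' = a ^ r' * u
          have h4 := congrArg (fun y => t⁻¹ * y * (x * t * x⁻¹)) h1
          simp only [mul_assoc] at h4 ⊢
          simpa [hu, mul_assoc] using h4
        have hcop : (orderOf a).Coprime r' := by
          rw [hm]
          exact Nat.Coprime.pow_left m (Nat.coprime_two_left.2 ⟨j, hj⟩)
        obtain ⟨s, hs⟩ := exists_pow_eq_self_of_coprime hcop.symm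
        rw [Subgroup.mem_centralizer_iff]
        rintro y ⟨i', rfl⟩
        exact ((hs ▸ hua.pow_right s).zpow_right i').eq.symm
      obtain ⟨l, hl⟩ := mem_powers_iff_mem_zpowers.2 h2
      simp only at hl
      have h3 : x * t * x⁻¹ = t * a ^ l := by rw [hl, hu, mul_inv_cancel_left]
      have hsq2 : (t * a ^ l) * (t * a ^ l) = 1 := by
        rw [← h3]
        calc x * t * x⁻¹ * (x * t * x⁻¹) = x * (t * t) * x⁻¹ := by group
          _ = 1 := by rw [ht, mul_one, mul_inv_cancel]
      have ti : t⁻¹ = t := inv_eq_of_mul_eq_one_right ht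
      have e : t * a ^ l * (t * a ^ l) = (t * a ^ l * t⁻¹) * a ^ l := by rw [ti]; group
      rw [e, ← conj_pow, hta, (hza a).mul_pow, mul_assoc, (hza (a ^ l)).symm.pow_left l |>.eq,
        ← mul_assoc, ← pow_add] at hsq2
      rcases Nat.even_or_odd l with ⟨l1, hl1⟩ | ⟨l1, hl1⟩
      · have hz0 : z ^ l = 1 := by rw [hl1, ← two_mul, pow_mul, hz2, one_pow]
        rw [hz0, mul_one] at hsq2
        have hdvd := orderOf_dvd_of_pow_eq_one hsq2
        rw [hm, ← two_pow_half (show 1 ≤ m by omega), ← mul_two] at hdvd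
        obtain ⟨u', hu'⟩ := Nat.dvd_of_mul_dvd_mul_right two_pos hdvd
        rw [hu', pow_mul, ← hz] at h3
        rcases Nat.even_or_odd u' with ⟨u2, hu2⟩ | ⟨u2, hu2⟩
        · left; rw [h3, hu2, ← two_mul, pow_mul, hz2, one_pow, mul_one]
        · right; rw [h3, hu2, pow_succ, pow_mul, hz2, one_pow, one_mul]
      · exfalso
        have hz0 : z ^ l = z := by rw [hl1, pow_succ, pow_mul, hz2, one_pow, one_mul]
        rw [hz0] at hsq2
        have h4 : a ^ ((l + l) * 2) = 1 := by
          rw [pow_mul]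
          have : a ^ (l + l) = z⁻¹ := eq_inv_of_mul_eq_one_left hsq2
          rw [this, inv_pow, hz2, inv_one]
        have hdvd := orderOf_dvd_of_pow_eq_one h4
        rw [hm] at hdvd
        have h8 : 8 ∣ (l + l) * 2 := (pow_dvd_pow 2 hm3).trans hdvd
        omega
    refine ⟨B, ⟨fun x hx y => ?_⟩, ?_, ?_, ?_⟩
    · rcases (hmemB x).1 hx with rfl | rfl | rfl | rfl
      · simp
      · rw [(hza y).eq, mul_inv_cancel_right]
        exact hx
      · rcases hconj y with h | h <;> rw [h] <;> simp [hmemB]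
      · have e : y * (t * z) * y⁻¹ = y * t * y⁻¹ * z := by
          rw [mul_assoc (y * t), (hza y⁻¹).eq]; group
        rcases hconj y with h | h <;> rw [e, h]
        · simp [hmemB]
        · rw [mul_assoc, hzz, mul_one]; simp [hmemB]
    · have hc1 : ∀ x ∈ B, Commute x t ∧ Commute x z := by
        intro x hx
        rcases (hmemB x).1 hx with rfl | rfl | rfl | rfl
        · exact ⟨Commute.one_left _, Commute.one_left _⟩
        · exact ⟨(hza t).symm, Commute.refl _⟩
        · exact ⟨Commute.refl _, hza _⟩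
        · exact ⟨(Commute.refl t).mul_left (hza t).symm, hza _⟩
      intro x hx y hy
      obtain ⟨h1, h2⟩ := hc1 x hx
      rcases (hmemB y).1 hy with rfl | rfl | rfl | rfl
      · simp
      · exact h2
      · exact h1
      · exact h1.mul_right h2
    · intro x hx
      rcases (hmemB x).1 hx with rfl | rfl | rfl | rfl
      · simp
      · exact hz2
      · rw [sq, ht]
      · rw [htz.mul_pow, hz2, sq, ht, one_mul]
    · show Nat.card ({1, z, t, t * z} : Set G) = 2 ^ 2
      have hzA : z ∈ Subgroup.zpowers a := pow_mem (Subgroup.mem_zpowers a) _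
      have htzA : t * z ∉ Subgroup.zpowers a := fun h =>
        htA (by simpa using mul_mem h (inv_mem hzA))
      rw [Nat.card_coe_set_eq,
        Set.ncard_insert_of_notMem ?_ (Set.toFinite _),
        Set.ncard_insert_of_notMem ?_ (Set.toFinite _),
        Set.ncard_pair (fun h => hz1 (by simpa using h.symm))]
      · norm_num
      · rintro (h | h)
        · exact htA (h ▸ hzA)
        · exact htzA (h ▸ hzA)
      · rintro (h | h | h)
        · exact hz1 h.symm
        · exact htA (h ▸ one_mem _)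
        · exact htzA (h ▸ one_mem _)
  have hsqA : ∀ g : G, g ^ 2 ∈ Subgroup.zpowers a := by
    intro g
    obtain ⟨n, hn⟩ := hG g
    have claim : ∀ k : ℕ, g ^ 2 ^ k ∈ Subgroup.zpowers a → g ^ 2 ∈ Subgroup.zpowers a := by
      intro k
      induction k with
      | zero => intro h; rw [pow_zero, pow_one] at h; exact pow_mem h 2
      | succ k ih =>
        intro h
        by_cases hk : g ^ 2 ^ k ∈ Subgroup.zpowers a
        · exact ih hk
        rcases Nat.eq_zero_or_pos k with rfl | hk0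
        · simpa using h
        exfalso
        obtain ⟨r, hodd, hr⟩ := hexp g
        have hpow : ∀ i : ℕ, g ^ i * a * (g ^ i)⁻¹ = a ^ (r ^ i) :=
          CfsgLib.UniqueInvol.pow_conj_pow hr
        have h3 := key _ hk (by rw [← pow_mul, ← pow_succ]; exact h) _ (hpow _) hodd.pow
        obtain ⟨k', rfl⟩ : ∃ k', k = k' + 1 := ⟨k - 1, by omega⟩
        rw [pow_succ, pow_mul, Nat.pow_mod, sq] at h3
        have : (r ^ 2 ^ k') % 4 = 1 ∨ (r ^ 2 ^ k') % 4 = 3 := by
          obtain ⟨l, hl⟩ := hodd.pow (n := 2 ^ k')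
          omega
        rcases this with e | e <;> rw [Nat.mul_mod] at h3 <;> simp [e] at h3
    exact claim n (by rw [hn]; exact one_mem _)
  refine ⟨hm, hm2, ?_, fun g hg => ?_, hzc⟩
  · rw [Subgroup.index_eq_two_iff]
    obtain ⟨g0, hg0⟩ := not_forall.1 hall
    refine ⟨g0, fun b => ?_⟩
    by_cases hb : b ∈ Subgroup.zpowers a
    · refine Or.inr ⟨hb, fun h => hg0 ?_⟩
      simpa using mul_mem (inv_mem hb) h
    · refine Or.inl ⟨?_, hb⟩
      by_contra hbg
      obtain ⟨r1, hr1o, hr1⟩ := hexp b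
      obtain ⟨r2, hr2o, hr2⟩ := hexp g0
      have e1 := key b hb (hsqA b) r1 hr1 hr1o
      have e2 := key g0 hg0 (hsqA g0) r2 hr2 hr2o
      have e3 := key _ hbg (hsqA _) (r1 * r2) (by
        calc b * g0 * a * (b * g0)⁻¹ = b * (g0 * a * g0⁻¹) * b⁻¹ := by group
          _ = a ^ (r1 * r2) := by rw [hr2, conj_pow_nat hr1]) (hr1o.mul hr2o)
      rw [Nat.mul_mod, e1, e2] at e3
      exact absurd e3 (by norm_num)
  · obtain ⟨r, hodd, hr⟩ := hexp g
    exact ⟨r, key g hg (hsqA g) r hr hodd, hr⟩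

end CfsgLib.HalfTransP
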