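import Cfsg.Agent.HalfTransP.MonomialTwo
import Cfsg.Agent.HalfTransP.Count

/-!
# Half-transitive linear `p`-groups
-/

set_option maxHeartbeats 400000
set_option autoImplicit false
set_option linter.unusedSectionVars false
set_option linter.style.haveILetI false

namespace CfsgLib.HalfTransP

variable {q : ℕ} [Fact q.Prime] {V : Type*} [AddCommGroup V] [Module (ZMod q) V] [Finite V]
variable {G : Type*} [Group G] [Finite G] {ρ : G →* (V ≃ₗ[ZMod q] V)}

/-- A semiregular linear `p`-group is cyclic or generalised quaternion. -/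
theorem semiregular_structure [Nontrivial V] {p : ℕ} [hp : Fact p.Prime] (hG : IsPGroup p G)
    (hsr : ∀ v : V, v ≠ 0 → ∀ g : G, ρ g v = v → g = 1) :
    IsCyclic G ∨ ∃ n : ℕ, Nonempty (G ≃* QuaternionGroup n) := by
  rcases subsingleton_or_nontrivial G with hs | hs
  · exact Or.inl inferInstance
  have hpq : (p : ZMod q) ≠ 0 := by
    intro h0
    rw [ZMod.natCast_eq_zero_iff] at h0 <;> try exact (Fact.out : q.Prime).ne_zero
    have hpq : q = p := (Nat.prime_dvd_prime_iff_eq Fact.out hp.out).1 h0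
    letI : MulAction G V :=
      { smul := fun g v => ρ g v
        one_smul := fun v => by show ρ 1 v = v; simp
        mul_smul := fun g k v => apply_mul g k v }
    have hV : p ∣ Nat.card V := by
      rw [Module.natCard_eq_pow_finrank (K := ZMod q), Nat.card_zmod]
      exact dvd_pow (dvd_of_eq hpq.symm) Module.finrank_pos.ne'
    obtain ⟨v, hv, hv0⟩ := hG.exists_fixed_point_of_prime_dvd_card_of_fixed_point V hV
      (a := (0 : V)) (fun g => map_zero (ρ g))
    obtain ⟨g, hg⟩ := exists_ne (1 : G)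
    exact hg (hsr v hv0.symm g (hv g))
  obtain ⟨c, -, hc1, hcc⟩ := CfsgLib.UniqueInvol.exists_central hG (⊤ : Subgroup G) top_ne_bot
  obtain ⟨k, hk⟩ := hG c
  have hex : ∃ k, c ^ p ^ k = 1 := ⟨k, hk⟩
  obtain ⟨d, hdc, hd1, hdp⟩ : ∃ d ∈ Subgroup.center G, d ≠ 1 ∧ d ^ p = 1 := by
    classical
    have h1 := Nat.find_spec hex
    obtain ⟨k', hk'⟩ : ∃ k', Nat.find hex = k' + 1 := ⟨Nat.find hex - 1, by
      have : Nat.find hex ≠ 0 := fun h0 => hc1 (by rw [h0, pow_zero, pow_one] at h1; exact h1)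
      omega⟩
    exact ⟨c ^ p ^ k', pow_mem hcc _, Nat.find_min hex (by omega),
      by rw [← pow_mul, ← pow_succ, ← hk']; exact h1⟩
  have hdord : orderOf d = p := orderOf_eq_prime hdp hd1
  have key : ∀ x : G, orderOf x = p → x ∈ Subgroup.zpowers d := by
    intro x hx
    by_contra hxd
    obtain ⟨v, hv⟩ := exists_ne (0 : V)
    have hcom : ∀ g : G, Commute g d := fun g => Subgroup.mem_center_iff.1 hdc g
    have hzero : ∀ w : G, w ≠ 1 → w ^ p = 1 → ∀ u : V, av ρ p w u = 0 := by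
      intro w hw hwp u
      by_contra hne
      exact hw (hsr _ hne w (av_fixed hwp u))
    have hsum : ∑ j ∈ Finset.range p, av ρ p (x * d ^ j) v = p • v := by
      unfold av
      rw [Finset.sum_comm]
      have e : ∀ i j : ℕ, ρ ((x * d ^ j) ^ i) v = ρ (x ^ i) (ρ ((d ^ i) ^ j) v) := fun i j => by
        rw [← apply_mul, ((hcom x).pow_right j).mul_pow, ← pow_mul, ← pow_mul, mul_comm j]
      simp only [e, ← map_sum]
      rw [Finset.sum_eq_single 0]
      · simp
      · intro i hi hi0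
        have h1 : d ^ i ≠ 1 := pow_ne_one_of_lt_orderOf hi0 (by rw [hdord]; exact Finset.mem_range.1 hi)
        have h2 : ∑ j ∈ Finset.range p, ρ ((d ^ i) ^ j) v = 0 :=
          hzero _ h1 (by rw [← pow_mul, mul_comm, pow_mul, hdp, one_pow]) v
        rw [h2, map_zero]
      · intro h
        exact absurd (Finset.mem_range.2 hp.out.pos) h
    rw [Finset.sum_eq_zero fun j _ => hzero _ (fun h1 => hxd (by
      rw [eq_inv_of_mul_eq_one_left h1]; exact inv_mem (Subgroup.npow_mem_zpowers d j))) (by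
        rw [((hcom x).pow_right j).mul_pow, ← hx, pow_orderOf_eq_one, hx, ← pow_mul, mul_comm,
          pow_mul, hdp, one_pow, one_mul]) v, ← Nat.cast_smul_eq_nsmul (ZMod q)] at hsum
    exact hv ((_root_.smul_eq_zero.1 hsum.symm).resolve_left hpq)
  refine (CfsgLib.UniqueInvol.cyclic_or_quaternion hG fun x y hx hy => ?_).imp_right ?_
  · have h1 : Subgroup.zpowers x = Subgroup.zpowers d := Subgroup.eq_of_le_of_card_ge
      (Subgroup.zpowers_le.2 (key x hx)) (by rw [Nat.card_zpowers, Nat.card_zpowers, hx, hdord])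
    exact h1 ▸ key y hy
  · rintro ⟨-, n, -, hn⟩
    exact ⟨_, hn⟩

/-- A normal elementary abelian subgroup of order `p ^ 2` gives a monomial configuration. -/
theorem exists_mono {p : ℕ} (h : HT ρ p) (hB : HasNormalSq G p) :
    ∃ z a : G, Mono ρ p z a := by
  obtain ⟨B, hBn, hBc, hBp, hcard⟩ := hB
  haveI := Fact.mk h.prime
  haveI := hBn
  have hB1 : B ≠ ⊥ := fun hh => by
    rw [hh, Subgroup.card_bot] at hcard
    exact (Nat.one_lt_pow two_ne_zero h.prime.one_lt).ne hcard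
  obtain ⟨z, hzB, hz1, hzc⟩ := CfsgLib.UniqueInvol.exists_central h.pgroup B hB1
  have hzord : orderOf z = p := orderOf_eq_prime (hBp z hzB) hz1
  obtain ⟨a, haB, haz⟩ : ∃ a ∈ B, a ∉ Subgroup.zpowers z := by
    by_contra hh
    push Not at hh
    have h2 := Subgroup.card_le_of_le (show B ≤ Subgroup.zpowers z from hh)
    rw [hcard, Nat.card_zpowers, hzord, sq] at h2
    exact absurd h2 (not_le.2 (lt_mul_of_one_lt_left h.prime.pos h.prime.one_lt))
  refine ⟨z, a, h, hzc, hBp z hzB, hz1, hBp a haB, haz, fun g => ?_⟩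
  haveI hN : (Subgroup.zpowers z).Normal :=
    ⟨fun x hx y => by
      have hxc : x ∈ Subgroup.center G := Subgroup.zpowers_le.2 hzc hx
      rw [Subgroup.mem_center_iff.1 hxc y, mul_inv_cancel_right]
      exact hx⟩
  set f := QuotientGroup.mk' (Subgroup.zpowers z) with hf
  haveI : (B.map f).Normal := Subgroup.Normal.map inferInstance f (QuotientGroup.mk'_surjective _)
  have hcardq : Nat.card (B.map f) = p := by
    have h1 := (f.ker.subgroupOf B).card_mul_index
    have h2 : (f.ker.subgroupOf B).index = Nat.card (B.map f) := by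
      rw [← MonoidHom.ker_domRestrict, Subgroup.index_ker, MonoidHom.domRestrict_range]
    rw [h2, QuotientGroup.ker_mk', Nat.card_congr (Subgroup.subgroupOfEquivOfLe
      (Subgroup.zpowers_le.2 hzB)).toEquiv, Nat.card_zpowers, hzord, hcard, sq] at h1
    exact Nat.eq_of_mul_eq_mul_left h.prime.pos h1
  obtain ⟨c, hcB, hc1, hcc⟩ := CfsgLib.UniqueInvol.exists_central
    (h.pgroup.to_quotient (Subgroup.zpowers z)) (B.map f) (fun hh => by
      rw [hh, Subgroup.card_bot] at hcardq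
      exact h.prime.one_lt.ne hcardq)
  have hcen : f a ∈ Subgroup.center (G ⧸ Subgroup.zpowers z) := by
    have h1 : Subgroup.zpowers c = B.map f := by
      refine Subgroup.eq_of_le_of_card_ge (Subgroup.zpowers_le.2 hcB) ?_
      rw [hcardq, Nat.card_zpowers]
      have h2 : orderOf c ∣ p := hcardq ▸ Subgroup.orderOf_dvd_natCard _ hcB
      exact ((Nat.dvd_prime h.prime).1 h2).elim
        (fun h3 => absurd (orderOf_eq_one_iff.1 h3) hc1) (fun h3 => h3.ge)
    exact Subgroup.zpowers_le.2 hcc (h1 ▸ Subgroup.mem_map_of_mem f haB)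
  refine ⟨a⁻¹ * (g * a * g⁻¹), ?_, by rw [mul_inv_cancel_left]⟩
  rw [← QuotientGroup.eq_one_iff]
  show f (a⁻¹ * (g * a * g⁻¹)) = 1
  rw [map_mul, map_mul, map_mul, map_inv, map_inv, Subgroup.mem_center_iff.1 hcen (f g),
    mul_inv_cancel_right, inv_mul_cancel]

theorem classification [Nontrivial V] {p : ℕ} (h : HT ρ p) :
    (Nat.card V = q ^ 2 ∧ ∃ k : ℕ, q = 2 ^ k - 1 ∧
      (Nonempty (G ≃* DihedralGroup (2 ^ k)) ∨
        (Nat.card G = 2 ^ (k + 2) ∧ 2 ≤ k ∧ ∃ x y : G, orderOf x = 2 ^ (k + 1) ∧ orderOf y = 2 ∧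
          y * x * y⁻¹ = x ^ (2 ^ k - 1)))) ∨
    (Nat.card V = q ^ 2 ∧ (∃ m : ℕ, q = 2 ^ m + 1) ∧
      ∃ e : V ≃ₗ[ZMod q] (Fin 2 → ZMod q), ∀ f : (Fin 2 → ZMod q) ≃ₗ[ZMod q] (Fin 2 → ZMod q),
        (∃ g : G, f = e.symm.trans ((ρ g).trans e)) ↔
        ∃ a s : ZMod q, a ≠ 0 ∧ (s = 1 ∨ s = -1) ∧
          ((∀ v, f v = ![a * v 0, s * a⁻¹ * v 1]) ∨ (∀ v, f v = ![s * a⁻¹ * v 1, a * v 0]))) ∨
    (Nat.card V = 81 ∧ q = 3 ∧ p = 2) := by
  haveI := Fact.mk h.prime
  rcases eq_or_ne p 2 with rfl | hp2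
  · have hq2 : q ≠ 2 := by
      intro h2
      have h0 := h.ne_zero
      rw [Ne, ZMod.natCast_eq_zero_iff] at h0
      exact h0 (dvd_of_eq h2)
    rcases normalSq_or_cycData h.pgroup with hc | hB | ⟨a, m, D⟩
    · exact (h.cyclic_false hc).elim
    · obtain ⟨z, a, M⟩ := exists_mono h hB
      obtain ⟨d, r, hW, hd, hqd, hV⟩ := M.card_facts
      rcases pred_pow_two Fact.out hq2 hd hqd with ⟨rfl, hq⟩ | ⟨hq, rfl⟩
      · exact Or.inr (Or.inl ⟨by simpa using hV, ⟨r, hq⟩,
          M.exists_coordinates (by simpa using hW) (by simpa using hV)⟩)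
      · exact Or.inr (Or.inr ⟨by subst hq; simpa using hV, hq, rfl⟩)
    · exact Or.inl (h.cycData_cases D)
  · exfalso
    by_cases hc : IsCyclic G
    · exact h.cyclic_false hc
    obtain ⟨B, hBn, ⟨hBc, hBp⟩, hcard⟩ := CfsgLib.PGroupRank.exists_normal_sq hp2 h.pgroup hc
    obtain ⟨z, a, M⟩ := exists_mono h ⟨B, hBn,
      fun x hx y hy => congrArg Subtype.val (hBc.is_comm.comm ⟨x, hx⟩ ⟨y, hy⟩), hBp, hcard⟩
    exact M.false_of_odd hp2

end CfsgLib.HalfTransP
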