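import Cfsg.Agent.HalfTransP.Basic

/-!
# Half-transitive linear `p`-groups with a normal elementary subgroup of order `p ^ 2`
-/

set_option maxHeartbeats 400000
set_option autoImplicit false
set_option linter.unusedSectionVars false

namespace CfsgLib.HalfTransP

variable {q : ℕ} [Fact q.Prime] {V : Type*} [AddCommGroup V] [Module (ZMod q) V]
variable {G : Type*} [Group G] [Finite G] (ρ : G →* (V ≃ₗ[ZMod q] V))

/-- A non-central element of order `p` moved only inside its coset of a central subgroup. -/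
structure Mono (p : ℕ) (z a : G) : Prop where
  ht : HT ρ p
  central : z ∈ Subgroup.center G
  zp : z ^ p = 1
  z1 : z ≠ 1
  ap : a ^ p = 1
  out : a ∉ Subgroup.zpowers z
  conj : ∀ g : G, ∃ e ∈ Subgroup.zpowers z, g * a * g⁻¹ = a * e

variable {ρ} {p : ℕ} {z a : G}

theorem Mono.mem_center (m : Mono ρ p z a) {c : G} (hc : c ∈ Subgroup.zpowers z) :
    c ∈ Subgroup.center G := Subgroup.zpowers_le.2 m.central hc

theorem Mono.comm (m : Mono ρ p z a) {c : G} (hc : c ∈ Subgroup.zpowers z) (g : G) :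
    Commute g c := Subgroup.mem_center_iff.1 (m.mem_center hc) g

theorem Mono.cp (m : Mono ρ p z a) {c : G} (hc : c ∈ Subgroup.zpowers z) : c ^ p = 1 := by
  obtain ⟨k, rfl⟩ := hc
  show (z ^ k) ^ p = 1
  rw [← zpow_natCast, ← zpow_mul, mul_comm, zpow_mul, zpow_natCast, m.zp, one_zpow]

theorem Mono.fpf (m : Mono ρ p z a) {c : G} (hc : c ∈ Subgroup.zpowers z) (hc1 : c ≠ 1) {v : V}
    (hv : ρ c v = v) : v = 0 :=
  m.ht.central_fpf (m.mem_center hc) (m.cp hc) hc1 hv

theorem Mono.ac_pow (m : Mono ρ p z a) {c : G} (hc : c ∈ Subgroup.zpowers z) :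
    (a * c) ^ p = 1 := by
  rw [(m.comm hc a).mul_pow, m.ap, m.cp hc, one_mul]

theorem Mono.unique (m : Mono ρ p z a) {c d : G} (hc : c ∈ Subgroup.zpowers z)
    (hd : d ∈ Subgroup.zpowers z) (hne : c ≠ d) {v : V} (h1 : ρ (a * c) v = v)
    (h2 : ρ (a * d) v = v) : v = 0 := by
  refine m.fpf (mul_mem (inv_mem hc) hd) (fun h => hne (inv_mul_eq_one.1 h)) (v := v) ?_
  have h3 : ρ (a * c) (ρ (c⁻¹ * d) v) = ρ (a * c) v := by
    rw [← apply_mul, show a * c * (c⁻¹ * d) = a * d by group, h2, h1]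
  exact (ρ (a * c)).injective h3

theorem Mono.av_zero (m : Mono ρ p z a) {c d : G} (hc : c ∈ Subgroup.zpowers z)
    (hd : d ∈ Subgroup.zpowers z) (hne : c ≠ d) {v : V} (hv : ρ (a * d) v = v) :
    av ρ p (a * c) v = 0 := by
  have hw := mul_mem (inv_mem hd) hc
  have e : ρ (a * c) v = ρ (d⁻¹ * c) v := by
    rw [show a * c = d⁻¹ * c * (a * d) by
      rw [← (m.comm hw (a * d)).eq]; group, apply_mul, hv]
  rw [av_congr e ((m.comm hw (a * c))) ]
  exact m.fpf hw (fun h => hne (inv_mul_eq_one.1 h).symm) (av_fixed (m.cp hw) v)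

theorem Mono.translate (m : Mono ρ p z a) {g e c : G} (hg : g * a * g⁻¹ = a * e)
    (hc : c ∈ Subgroup.zpowers z) {v : V} (hv : ρ (a * c) v = v) :
    ρ (a * (e * c)) (ρ g v) = ρ g v := by
  have : a * (e * c) * g = g * (a * c) := by
    calc a * (e * c) * g = a * e * (c * g) := by group
      _ = g * a * g⁻¹ * (g * c) := by rw [hg, (m.comm hc g).eq]
      _ = g * (a * c) := by group
  rw [← apply_mul, this, apply_mul, hv]

theorem Mono.span (m : Mono ρ p z a) (v : V) :
    ∑ j ∈ Finset.range p, av ρ p (a * z ^ j) v = p • v := by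
  haveI := Fact.mk m.ht.prime
  have hord : orderOf z = p := orderOf_eq_prime m.zp m.z1
  unfold av
  rw [Finset.sum_comm]
  have e : ∀ i j : ℕ, ρ ((a * z ^ j) ^ i) v = ρ (a ^ i) (ρ ((z ^ i) ^ j) v) := fun i j => by
    rw [← apply_mul, (m.comm (Subgroup.npow_mem_zpowers z j) a).mul_pow, ← pow_mul, ← pow_mul,
      mul_comm j]
  simp only [e, ← map_sum]
  rw [Finset.sum_eq_single 0]
  · simp
  · intro i hi hi0
    have hz : z ^ i ≠ 1 := pow_ne_one_of_lt_orderOf hi0 (by rw [hord]; exact Finset.mem_range.1 hi)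
    have h2 : ∑ j ∈ Finset.range p, ρ ((z ^ i) ^ j) v = 0 :=
      m.fpf (Subgroup.npow_mem_zpowers z i) hz (av_fixed (m.cp (Subgroup.npow_mem_zpowers z i)) v)
    rw [h2, map_zero]
  · intro h
    exact absurd (Finset.mem_range.2 m.ht.prime.pos) h

theorem Mono.eq_one (m : Mono ρ p z a) {g : G}
    (h : ∀ c ∈ Subgroup.zpowers z, ∀ v : V, ρ (a * c) v = v → ρ g v = v) : g = 1 := by
  refine m.ht.eq_one fun v => ?_
  have h2 : ρ g (p • v) = p • v := by
    rw [← m.span v, map_sum]
    exact Finset.sum_congr rfl fun j _ => h _ (Subgroup.npow_mem_zpowers z j) _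
      (av_fixed (m.ac_pow (Subgroup.npow_mem_zpowers z j)) v)
  rw [map_nsmul] at h2
  exact sub_eq_zero.1 (m.ht.smul_eq_zero (by rw [smul_sub, h2, sub_self]))

theorem Mono.exists_fixed (m : Mono ρ p z a) {c : G} (hc : c ∈ Subgroup.zpowers z) :
    ∃ v : V, v ≠ 0 ∧ ρ (a * c) v = v := by
  haveI := Fact.mk m.ht.prime
  haveI := m.ht.nontriv
  obtain ⟨x, hx⟩ := exists_ne (0 : V)
  obtain ⟨j, hj⟩ : ∃ j, av ρ p (a * z ^ j) x ≠ 0 := by
    by_contra h
    push Not at h
    exact hx (m.ht.smul_eq_zero (by rw [← m.span x, Finset.sum_eq_zero fun j _ => h j]))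
  have hzj := Subgroup.npow_mem_zpowers z j
  have hfix := av_fixed (ρ := ρ) (m.ac_pow hzj) x
  obtain ⟨g, e, he, hg, he1⟩ : ∃ g e, e ∈ Subgroup.zpowers z ∧ g * a * g⁻¹ = a * e ∧ e ≠ 1 := by
    by_contra h
    push Not at h
    have hac : a ∈ Subgroup.center G := Subgroup.mem_center_iff.2 fun g => by
      obtain ⟨e, he, hg⟩ := m.conj g
      rw [h g e he hg, mul_one] at hg
      exact mul_inv_eq_iff_eq_mul.1 hg
    refine hj (m.ht.central_fpf (mul_mem hac (m.mem_center hzj)) (m.ac_pow hzj) ?_ hfix)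
    intro h1
    exact m.out ((mul_eq_one_iff_eq_inv.1 h1) ▸ inv_mem hzj)
  obtain ⟨k, hk⟩ : ∃ k : ℕ, c = e ^ k * z ^ j := by
    have hee : Subgroup.zpowers e = Subgroup.zpowers z := by
      refine Subgroup.eq_of_le_of_card_ge (Subgroup.zpowers_le.2 he) ?_
      rw [Nat.card_zpowers, Nat.card_zpowers, orderOf_eq_prime (m.cp he) he1,
        orderOf_eq_prime m.zp m.z1]
    have hce : c * (z ^ j)⁻¹ ∈ Submonoid.powers e :=
      mem_powers_iff_mem_zpowers.2 (hee ▸ mul_mem hc (inv_mem hzj))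
    obtain ⟨k, hk⟩ := hce
    exact ⟨k, by rw [show e ^ k = c * (z ^ j)⁻¹ from hk]; group⟩
  refine ⟨ρ (g ^ k) (av ρ p (a * z ^ j) x), fun h => hj ?_, ?_⟩
  · exact (ρ (g ^ k)).injective (h.trans (map_zero _).symm)
  · rw [hk]
    refine m.translate (e := e ^ k) ?_ hzj hfix
    clear hk
    induction k with
    | zero => simp
    | succ k ih =>
      calc g ^ (k + 1) * a * (g ^ (k + 1))⁻¹ = g * (g ^ k * a * (g ^ k)⁻¹) * g⁻¹ := by
            rw [pow_succ']; group
        _ = g * a * g⁻¹ * (g * e ^ k * g⁻¹) := by rw [ih]; group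
        _ = a * e ^ (k + 1) := by
          rw [hg, (m.comm (pow_mem he k) g).eq, mul_inv_cancel_right, pow_succ', mul_assoc]

/-- An element fixing `v + w` fixes both or swaps the two components. -/
theorem Mono.pair (m : Mono ρ p z a) {c d : G} (hc : c ∈ Subgroup.zpowers z)
    (hd : d ∈ Subgroup.zpowers z) (hne : c ≠ d) {v w : V} (hv : v ≠ 0) (hw : w ≠ 0)
    (hvc : ρ (a * c) v = v) (hwd : ρ (a * d) w = w) {g : G} (hg : ρ g (v + w) = v + w) :
    (ρ g v = v ∧ ρ g w = w) ∨
    (∃ e, g * a * g⁻¹ = a * e ∧ e * c = d ∧ e * d = c ∧ ρ g v = w ∧ ρ g w = v) := by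
  obtain ⟨e, he, hge⟩ := m.conj g
  rw [map_add] at hg
  have gv := m.translate hge hc hvc
  have gw := m.translate hge hd hwd
  have hec := mul_mem he hc
  have hed := mul_mem he hd
  have hne' : e * c ≠ e * d := fun h => hne (mul_left_cancel h)
  have k1 := congrArg (av ρ p (a * (e * c))) hg
  rw [av_add, av_add, av_of_fixed gv, m.av_zero hec hed hne' gw, add_zero] at k1
  have k2 := congrArg (av ρ p (a * (e * d))) hg
  rw [av_add, av_add, av_of_fixed gw, m.av_zero hed hec hne'.symm gv, zero_add] at k2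
  have cancel : ∀ {x y : V}, p • x = p • y → x = y := fun {x y} hxy =>
    sub_eq_zero.1 (m.ht.smul_eq_zero (by rw [smul_sub, hxy, sub_self]))
  by_cases h1 : e * c = c
  · have he' : e = 1 := mul_eq_right.1 h1
    subst he'
    rw [one_mul, av_of_fixed hvc, m.av_zero hc hd hne hwd, add_zero] at k1
    exact Or.inl ⟨cancel k1, by rw [cancel k1] at hg; exact add_left_cancel hg⟩
  · rw [m.av_zero hec hc h1 hvc, zero_add] at k1
    have hecd : e * c = d := by
      by_contra h2
      rw [m.av_zero hec hd h2 hwd] at k1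
      exact hv ((ρ g).injective ((m.ht.smul_eq_zero k1).trans (map_zero _).symm))
    have hgv : ρ g v = w := by
      rw [hecd, av_of_fixed hwd] at k1
      exact cancel k1
    have hed' : e * d ≠ d := fun h2 => h1 (by rw [mul_eq_right.1 h2, one_mul])
    rw [m.av_zero hed hd hed' hwd, add_zero] at k2
    have hedc : e * d = c := by
      by_contra h2
      rw [m.av_zero hed hc h2 hvc] at k2
      exact hw ((ρ g).injective ((m.ht.smul_eq_zero k2).trans (map_zero _).symm))
    rw [hedc, av_of_fixed hvc] at k2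
    exact Or.inr ⟨e, hge, hecd, hedc, hgv, cancel k2⟩

/-- For odd `p` there is no such element. -/
theorem Mono.false_of_odd (m : Mono ρ p z a) (hp2 : p ≠ 2) : False := by
  have h1 : (1 : G) ∈ Subgroup.zpowers z := one_mem _
  have key : ∀ c ∈ Subgroup.zpowers z, ∀ d ∈ Subgroup.zpowers z, c ≠ d → ∀ v w : V, v ≠ 0 →
      w ≠ 0 → ρ (a * c) v = v → ρ (a * d) w = w → Stab ρ v = Stab ρ w := by
    intro c hc d hd hne v w hv hw hvc hwd
    have hvw : v + w ≠ 0 := by
      intro h0
      have h2 : ρ (a * c) w = w := by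
        rw [eq_neg_of_add_eq_zero_right h0, map_neg, hvc]
      exact hw (m.unique hc hd hne h2 hwd)
    have hsub : ∀ g ∈ Stab ρ (v + w), ρ g v = v ∧ ρ g w = w := by
      intro g hg
      rcases m.pair hc hd hne hv hw hvc hwd hg with h | ⟨e, hge, e1, e2, -, -⟩
      · exact h
      · exfalso
        have hee : e * e = 1 := by
          rw [← e1, ← mul_assoc] at e2
          exact mul_eq_right.1 e2
        obtain ⟨e', he', hge'⟩ := m.conj g
        have hee' : e = e' := mul_left_cancel (hge.symm.trans hge')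
        have hord : orderOf e ∣ Nat.gcd 2 p :=
          Nat.dvd_gcd (orderOf_dvd_of_pow_eq_one (by rw [pow_two, hee]))
            (orderOf_dvd_of_pow_eq_one (hee' ▸ m.cp he'))
        rw [(Nat.coprime_primes Nat.prime_two m.ht.prime).2 (Ne.symm hp2), Nat.dvd_one,
          orderOf_eq_one_iff] at hord
        rw [hord, one_mul] at e1
        exact hne e1
    rw [← m.ht.eq_of_le hvw hv fun g hg => (hsub g hg).1,
      ← m.ht.eq_of_le hvw hw fun g hg => (hsub g hg).2]
  obtain ⟨v, hv0, hv⟩ := m.exists_fixed h1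
  have hz : z ∈ Subgroup.zpowers z := Subgroup.mem_zpowers z
  obtain ⟨w, hw0, hw⟩ := m.exists_fixed hz
  refine m.ht.nsr v hv0 ((Subgroup.eq_bot_iff_forall _).2 fun g hg => m.eq_one fun c hc u hu => ?_)
  rcases eq_or_ne u 0 with rfl | hu0
  · simp
  · rcases eq_or_ne c 1 with rfl | hc1
    · have h2 := (key 1 h1 z hz m.z1.symm v w hv0 hw0 hv hw).trans
        (key 1 h1 z hz m.z1.symm u w hu0 hw0 hu hw).symm
      exact mem_stab.1 (h2 ▸ hg)
    · exact mem_stab.1 (key 1 h1 c hc hc1.symm v u hv0 hu0 hv hu ▸ hg)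

end CfsgLib.HalfTransP
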