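import Cfsg.Agent.HalfTransP.Monomial
import Cfsg.Agent.HalfTransP.Arith

/-!
# The monomial case for `p = 2`
-/

set_option maxHeartbeats 400000
set_option autoImplicit false
set_option linter.unusedSectionVars false
set_option linter.style.haveILetI false

namespace CfsgLib.HalfTransP

variable {q : ℕ} [Fact q.Prime] {V : Type*} [AddCommGroup V] [Module (ZMod q) V]
variable {G : Type*} [Group G] [Finite G] {ρ : G →* (V ≃ₗ[ZMod q] V)} {z a : G}

theorem card_orbit (K : Subgroup G) (v : V) :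
    Nat.card {u : V | ∃ g ∈ K, ρ g v = u} * Nat.card ((Stab ρ v).subgroupOf K) = Nat.card K := by
  letI : MulAction K V :=
    { smul := fun g v => ρ (g : G) v
      one_smul := fun v => by show ρ 1 v = v; simp
      mul_smul := fun g k v => apply_mul (g : G) (k : G) v }
  have e : (Stab ρ v).subgroupOf K = MulAction.stabilizer K v := by ext g; exact Iff.rfl
  have e2 : {u : V | ∃ g ∈ K, ρ g v = u} = MulAction.orbit K v := by
    ext u
    constructor
    · rintro ⟨g, hg, rfl⟩
      exact ⟨⟨g, hg⟩, rfl⟩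
    · rintro ⟨g, rfl⟩
      exact ⟨g, g.2, rfl⟩
  rw [e2, e, Nat.card_congr (MulAction.orbitEquivQuotientStabilizer K v)]
  exact (Subgroup.card_eq_card_quotient_mul_card_subgroup _).symm

theorem smul_two (v : V) : 2 • v = v + v := two_nsmul v

theorem z_neg (h : HT ρ 2) (hz : z ∈ Subgroup.center G) (hz2 : z ^ 2 = 1) (hz1 : z ≠ 1) (v : V) :
    ρ z v = -v := by
  have h2 := h.central_fpf hz hz2 hz1 (av_fixed hz2 v)
  simp only [av, Finset.sum_range_succ, Finset.sum_range_zero, zero_add, pow_zero, pow_one,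
    map_one] at h2
  exact eq_neg_of_add_eq_zero_right h2

theorem Mono.zpowers_two (m : Mono ρ 2 z a) {e : G} (he : e ∈ Subgroup.zpowers z) :
    e = 1 ∨ e = z := by
  obtain ⟨k, rfl⟩ := mem_powers_iff_mem_zpowers.2 he
  rcases Nat.even_or_odd k with ⟨j, hj⟩ | ⟨j, hj⟩
  · left
    show z ^ k = 1
    rw [hj, ← two_mul, pow_mul, m.zp, one_pow]
  · right
    show z ^ k = z
    rw [hj, pow_succ, pow_mul, m.zp, one_pow, one_mul]

theorem Mono.two_conj (m : Mono ρ 2 z a) (g : G) :
    g * a * g⁻¹ = a ∨ g * a * g⁻¹ = a * z := by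
  obtain ⟨e, he, hg⟩ := m.conj g
  rcases m.zpowers_two he with rfl | rfl
  · exact Or.inl (by rw [hg, mul_one])
  · exact Or.inr hg

theorem Mono.swapped (m : Mono ρ 2 z a) : Mono ρ 2 z (a * z) where
  ht := m.ht
  central := m.central
  zp := m.zp
  z1 := m.z1
  ap := m.ac_pow (Subgroup.mem_zpowers z)
  out := fun h => m.out (by simpa using mul_mem h (inv_mem (Subgroup.mem_zpowers z)))
  conj := fun g => by
    obtain ⟨e, he, hg⟩ := m.conj g
    refine ⟨e, he, ?_⟩
    calc g * (a * z) * g⁻¹ = g * a * g⁻¹ * (g * z * g⁻¹) := by group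
      _ = a * z * e := by
        rw [hg, (m.comm (Subgroup.mem_zpowers z) g).eq, mul_inv_cancel_right, mul_assoc,
          (m.comm he z).symm.eq, mul_assoc]

theorem Mono.az_fixed (m : Mono ρ 2 z a) {v : V} (hv : ρ (a * z) v = v) : ρ a v = -v := by
  rw [← neg_inj, neg_neg, ← map_neg, ← z_neg m.ht m.central m.zp m.z1, ← apply_mul]
  exact hv

theorem Mono.az_of_neg (m : Mono ρ 2 z a) {v : V} (hv : ρ a v = -v) : ρ (a * z) v = v := by
  rw [apply_mul, z_neg m.ht m.central m.zp m.z1, map_neg, hv, neg_neg]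

theorem Mono.fixed_unique (m : Mono ρ 2 z a) {v : V} (h1 : ρ a v = v) (h2 : ρ (a * z) v = v) :
    v = 0 :=
  m.unique (one_mem _) (Subgroup.mem_zpowers z) m.z1.symm (by rw [mul_one]; exact h1) h2

theorem Mono.two_pair (m : Mono ρ 2 z a) {v w : V} (hv : v ≠ 0) (hw : w ≠ 0) (hva : ρ a v = v)
    (hwa : ρ (a * z) w = w) {g : G} (hg : ρ g (v + w) = v + w) :
    (ρ g v = v ∧ ρ g w = w) ∨ (ρ g v = w ∧ ρ g w = v) := by
  rcases m.pair (one_mem _) (Subgroup.mem_zpowers z) m.z1.symm hv hw (by rw [mul_one]; exact hva)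
      hwa hg with h | ⟨e, -, -, -, h⟩
  · exact Or.inl h
  · exact Or.inr h

theorem Mono.sum_ne (m : Mono ρ 2 z a) {v w : V} (hw : w ≠ 0) (hva : ρ a v = v)
    (hwa : ρ (a * z) w = w) : v + w ≠ 0 := fun h0 =>
  hw (m.fixed_unique (by rw [eq_neg_of_add_eq_zero_right h0, map_neg, hva]) hwa)

theorem Mono.exists_one (m : Mono ρ 2 z a) : ∃ v : V, v ≠ 0 ∧ ρ a v = v := by
  simpa using m.exists_fixed (one_mem _)

/-- An element fixing a vector fixed by `a` acts by a sign on the other component. -/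
theorem Mono.pm (m : Mono ρ 2 z a) {v : V} (hv : v ≠ 0) (hva : ρ a v = v) {h : G}
    (hh : ρ h v = v) :
    (∀ w, ρ (a * z) w = w → ρ h w = w) ∨ (∀ w, ρ (a * z) w = w → ρ h w = -w) := by
  have key : ∀ w, ρ (a * z) w = w → ρ h w = w ∨ ρ h w = -w := by
    intro w hw
    rcases eq_or_ne w 0 with rfl | hw0
    · left; simp
    set S := Stab ρ (v + w) with hS
    set D : Subgroup G := Stab ρ v ⊓ Stab ρ w with hD
    have hcard : Nat.card S ≤ 2 * Nat.card D := by
      by_cases hex : ∃ g ∈ S, ρ g v = w ∧ ρ g w = v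
      · obtain ⟨g0, -, hg1, hg2⟩ := hex
        have hsub : (S : Set G) ⊆ (D : Set G) ∪ (fun d => g0 * d) '' (D : Set G) := by
          intro g hg
          rcases m.two_pair hv hw0 hva hw hg with ⟨h1, h2⟩ | ⟨h1, h2⟩
          · exact Or.inl ⟨mem_stab.2 h1, mem_stab.2 h2⟩
          · refine Or.inr ⟨g0⁻¹ * g, ⟨mem_stab.2 ?_, mem_stab.2 ?_⟩, by group⟩
            · rw [apply_mul, h1, apply_inv hg1]
            · rw [apply_mul, h2, apply_inv hg2]
        have h3 := (Set.ncard_le_ncard hsub (Set.toFinite _)).trans (Set.ncard_union_le _ _)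
        rw [Set.ncard_image_of_injective _ (mul_right_injective g0), ← Nat.card_coe_set_eq,
          ← Nat.card_coe_set_eq] at h3
        rw [two_mul]
        exact h3
      · have hsub : S ≤ D := fun g hg => by
          rcases m.two_pair hv hw0 hva hw hg with ⟨h1, h2⟩ | h1
          · exact ⟨mem_stab.2 h1, mem_stab.2 h2⟩
          · exact absurd ⟨g, hg, h1⟩ hex
        have := Subgroup.card_le_of_le hsub
        omega
    rw [m.ht.half _ v (m.sum_ne hw0 hva hw) hv] at hcard
    have hA : ((D : Set G) ∪ (fun d => a * d) '' (D : Set G)) = (Stab ρ v : Set G) := by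
      refine Set.eq_of_subset_of_ncard_le ?_ ?_ (Set.toFinite _)
      · rintro g (hg | ⟨d, hd, rfl⟩)
        · exact hg.1
        · exact mul_mem (mem_stab.2 hva) hd.1
      · have hdisj : Disjoint (D : Set G) ((fun d => a * d) '' (D : Set G)) := by
          rw [Set.disjoint_left]
          rintro g hg ⟨d, hd, rfl⟩
          have h1 : a ∈ Stab ρ w := by
            simpa using mul_mem (show a * d ∈ Stab ρ w from hg.2) (inv_mem (show d ∈ Stab ρ w from hd.2))
          exact hw0 (m.fixed_unique (mem_stab.1 h1) hw)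
        rw [Set.ncard_union_eq hdisj (Set.toFinite _) (Set.toFinite _),
          Set.ncard_image_of_injective _ (mul_right_injective a), ← Nat.card_coe_set_eq,
          ← Nat.card_coe_set_eq, ← two_mul]
        exact hcard
    have hmem : h ∈ (Stab ρ v : Set G) := hh
    rw [← hA] at hmem
    rcases hmem with h1 | ⟨d, hd, rfl⟩
    · exact Or.inl (mem_stab.1 h1.2)
    · refine Or.inr ?_
      show ρ (a * d) w = -w
      rw [apply_mul, mem_stab.1 hd.2, m.az_fixed hw]
  by_contra hne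
  push Not at hne
  obtain ⟨⟨x, hx, hx'⟩, ⟨y, hy, hy'⟩⟩ := hne
  have hxm := (key x hx).resolve_left hx'
  have hyp := (key y hy).resolve_right hy'
  have hxy : ρ (a * z) (x + y) = x + y := by rw [map_add, hx, hy]
  have two : ∀ u : V, u + u = 0 → u = 0 := fun u hu =>
    m.ht.smul_eq_zero ((smul_two u).trans hu)
  rcases key _ hxy with h1 | h1 <;> rw [map_add, hxm, hyp] at h1
  · exact hx' (by
      have h2 : x + x = 0 := by
        rw [← neg_eq_iff_add_eq_zero]; exact add_right_cancel h1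
      rw [two x h2, map_zero])
  · exact hy' (by
      have h2 : y + y = 0 := by
        rw [neg_add] at h1
        exact add_eq_zero_iff_eq_neg.2 (add_left_cancel h1)
      rw [two y h2, map_zero, neg_zero])

theorem Mono.stab_eq (m : Mono ρ 2 z a) {v : V} (hv : v ≠ 0) (hva : ρ a v = v) {h : G}
    (hh : ρ h v = v) : h = 1 ∨ h = a := by
  obtain ⟨w, hw0, hw⟩ := m.exists_fixed (Subgroup.mem_zpowers z)
  have main : ∀ k : G, ρ k v = v → (∀ x, ρ (a * z) x = x → ρ k x = x) → k = 1 := by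
    intro k hk hk1
    refine m.eq_one fun c hc x hx => ?_
    rcases m.zpowers_two hc with rfl | rfl
    · rw [mul_one] at hx
      have hzz : a * z * z = a := by rw [mul_assoc, ← sq, m.zp, mul_one]
      rcases m.swapped.pm hw0 hw (hk1 w hw) with h1 | h1
      · exact h1 x (by rw [hzz]; exact hx)
      · exfalso
        have h2 := h1 v (by rw [hzz]; exact hva)
        rw [hk] at h2
        exact hv (m.ht.smul_eq_zero (by rw [smul_two]; exact add_eq_zero_iff_eq_neg.2 h2))
    · exact hk1 x hx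
  rcases m.pm hv hva hh with h1 | h1
  · exact Or.inl (main h hh h1)
  · refine Or.inr ?_
    have h2 := main (a * h) (by rw [apply_mul, hh, hva]) (fun x hx => by
      rw [apply_mul, h1 x hx, map_neg, m.az_fixed hx, neg_neg])
    have ha : a * a = 1 := by rw [← sq, m.ap]
    exact mul_left_cancel (h2.trans ha.symm)

theorem Mono.card_stab (m : Mono ρ 2 z a) {v : V} (hv : v ≠ 0) : Nat.card (Stab ρ v) = 2 := by
  obtain ⟨v0, hv0, hva⟩ := m.exists_one
  rw [m.ht.half v v0 hv hv0]
  have e : (Stab ρ v0 : Set G) = {1, a} := by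
    ext g
    exact ⟨fun hg => m.stab_eq hv0 hva hg,
      fun hg => hg.elim (fun h => h ▸ one_mem _) (fun h => h ▸ mem_stab.2 hva)⟩
  show Nat.card (Stab ρ v0 : Set G) = 2
  rw [e, Nat.card_coe_set_eq, Set.ncard_pair]
  exact fun h => m.out (h ▸ one_mem _)

theorem Mono.exists_swap (m : Mono ρ 2 z a) {v w : V} (hv : v ≠ 0) (hw : w ≠ 0)
    (hva : ρ a v = v) (hwa : ρ (a * z) w = w) :
    ∃ g : G, ρ g v = w ∧ ρ g w = v ∧ g * g = 1 := by
  have htriv : ∀ g : G, ρ g v = v → ρ g w = w → g = 1 := by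
    intro g h1 h2
    rcases m.stab_eq hv hva h1 with h | rfl
    · exact h
    · exact absurd (m.fixed_unique h2 hwa) hw
  obtain ⟨g, hg, hg1⟩ : ∃ g, g ∈ Stab ρ (v + w) ∧ g ≠ 1 := by
    by_contra hne
    push Not at hne
    have h2 := m.card_stab (m.sum_ne hw hva hwa)
    rw [(Subgroup.eq_bot_iff_forall _).2 hne, Subgroup.card_bot] at h2
    exact absurd h2 (by norm_num)
  rcases m.two_pair hv hw hva hwa hg with ⟨h1, h2⟩ | ⟨h1, h2⟩
  · exact absurd (htriv g h1 h2) hg1
  · exact ⟨g, h1, h2, htriv _ (by rw [apply_mul, h1, h2]) (by rw [apply_mul, h2, h1])⟩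

theorem Mono.centralizes (m : Mono ρ 2 z a) {v : V} (hv : v ≠ 0) (hva : ρ a v = v) (k : G)
    (hk : ρ a (ρ k v) = ρ k v) : k * a * k⁻¹ = a := by
  refine (m.two_conj k).resolve_right fun h => ?_
  have h2 := m.translate (c := 1) h (one_mem _) (by rw [mul_one]; exact hva)
  rw [mul_one] at h2
  exact hv ((ρ k).injective ((m.fixed_unique hk h2).trans (map_zero _).symm))

theorem Mono.card_facts (m : Mono ρ 2 z a) [Finite V] :
    ∃ d r : ℕ, Nat.card {v : V | ρ a v = v} = q ^ d ∧ 1 ≤ d ∧ q ^ d = 2 ^ r + 1 ∧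
      Nat.card V = q ^ (2 * d) := by
  obtain ⟨v0, hv0, hva⟩ := m.exists_one
  obtain ⟨w0, hw0, hwa⟩ := m.exists_fixed (Subgroup.mem_zpowers z)
  set W : Submodule (ZMod q) V := LinearMap.ker ((ρ a).toLinearMap - LinearMap.id) with hW
  have memW : ∀ v, v ∈ W ↔ ρ a v = v := fun v => by
    rw [hW, LinearMap.mem_ker, LinearMap.sub_apply, sub_eq_zero]
    rfl
  have hsetW : {v : V | ρ a v = v} = (W : Set V) := by
    ext v; exact (memW v).symm
  set d := Module.finrank (ZMod q) W with hd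
  have hcW : Nat.card W = q ^ d := by
    rw [Module.natCard_eq_pow_finrank (K := ZMod q), Nat.card_zmod]
  have hd1 : 1 ≤ d := by
    by_contra h
    have h0 : d = 0 := by omega
    rw [h0, pow_zero, Nat.card_eq_one_iff_unique] at hcW
    haveI := hcW.1
    exact hv0 (congrArg Subtype.val (Subsingleton.elim (⟨v0, (memW v0).2 hva⟩ : W) 0))
  set K : Subgroup G := Subgroup.centralizer ({a} : Set G) with hK
  have hKmem : ∀ k, k ∈ K ↔ k * a * k⁻¹ = a := fun k => by
    rw [hK, Subgroup.mem_centralizer_singleton_iff, mul_inv_eq_iff_eq_mul]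
  have horb : {u : V | ∃ g ∈ K, ρ g v0 = u} = (W : Set V) \ {0} := by
    ext u
    constructor
    · rintro ⟨k, hk, rfl⟩
      have hc : k * a = a * k := mul_inv_eq_iff_eq_mul.1 ((hKmem k).1 hk)
      exact ⟨(memW _).2 (by rw [← apply_mul, ← hc, apply_mul, hva]),
        fun h0 => hv0 ((ρ k).injective (h0.trans (map_zero _).symm))⟩
    · rintro ⟨hu, hu0⟩
      obtain ⟨g, hg1, hg2, -⟩ := m.exists_swap hv0 hw0 hva hwa
      obtain ⟨g', hg1', hg2', -⟩ := m.exists_swap hu0 hw0 ((memW u).1 hu) hwa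
      have he : ρ (g' * g) v0 = u := by rw [apply_mul, hg1, hg2']
      exact ⟨g' * g, (hKmem _).2 (m.centralizes hv0 hva _ (by rw [he]; exact (memW u).1 hu)), he⟩
  have hsK : Stab ρ v0 ≤ K := fun g hg =>
    (hKmem g).2 (m.centralizes hv0 hva g (by rw [mem_stab.1 hg]; exact hva))
  have horbit := card_orbit (ρ := ρ) K v0
  rw [horb, Nat.card_congr (Subgroup.subgroupOfEquivOfLe hsK).toEquiv, m.card_stab hv0,
    Nat.card_coe_set_eq, Set.ncard_sdiff_singleton_of_mem W.zero_mem, ← Nat.card_coe_set_eq]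
    at horbit
  rw [show Nat.card ((W : Set V) : Type _) = q ^ d from hcW] at horbit
  obtain ⟨n, hn⟩ := IsPGroup.iff_card.1 (m.ht.pgroup.to_subgroup K)
  rw [hn] at horbit
  have h2q : 2 ≤ q ^ d :=
    (Fact.out : q.Prime).two_le.trans (Nat.le_self_pow (by omega) q)
  have hn1 : 1 ≤ n := by
    by_contra h
    rw [show n = 0 by omega, pow_zero] at horbit
    omega
  refine ⟨d, n - 1, hsetW ▸ hcW, hd1, ?_, ?_⟩
  · have h2 : 2 ^ n = 2 ^ (n - 1) * 2 := by rw [← pow_succ, Nat.sub_add_cancel hn1]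
    omega
  -- the decomposition
  obtain ⟨g, hg1, hg2, hgg⟩ := m.exists_swap hv0 hw0 hva hwa
  have hgaz : g * a * g⁻¹ = a * z := by
    refine (m.two_conj g).resolve_left fun h => hw0 (m.fixed_unique ?_ hwa)
    rw [← hg1, ← apply_mul, show a * g = g * a from (mul_inv_eq_iff_eq_mul.1 h).symm, apply_mul, hva]
  have hto : ∀ x : V, ρ (a * z) x = x → ρ g x ∈ W := fun x hx => (memW _).2 (by
    have h2 := m.translate hgaz (Subgroup.mem_zpowers z) hx
    rwa [← sq, m.zp, mul_one] at h2)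
  have hfrom : ∀ x : V, ρ a x = x → ρ (a * z) (ρ g x) = ρ g x := fun x hx => by
    have h2 := m.translate (c := 1) hgaz (one_mem _) (by rw [mul_one]; exact hx)
    rwa [mul_one] at h2
  have hgg' : ∀ x : V, ρ g (ρ g x) = x := fun x => by rw [← apply_mul, hgg, map_one]; rfl
  let f : W × W → V := fun x => (x.1 : V) + ρ g (x.2 : V)
  have hf : Function.Bijective f := by
    constructor
    · rintro ⟨⟨x1, h1⟩, ⟨x2, h2⟩⟩ ⟨⟨y1, h3⟩, ⟨y2, h4⟩⟩ hxy
      have e : (x1 - y1) + ρ g (x2 - y2) = 0 := by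
        rw [map_sub, sub_add_sub_comm]
        exact sub_eq_zero.2 hxy
      have ha1 : ρ a (x1 - y1) = x1 - y1 := (memW _).1 (sub_mem h1 h3)
      have ha2 : ρ (a * z) (ρ g (x2 - y2)) = ρ g (x2 - y2) := hfrom _ ((memW _).1 (sub_mem h2 h4))
      have hz0 : ρ g (x2 - y2) = 0 := m.fixed_unique (by
        rw [eq_neg_of_add_eq_zero_right e, map_neg, ha1]) ha2
      rw [hz0, add_zero, sub_eq_zero] at e
      have : x2 = y2 := sub_eq_zero.1 ((ρ g).injective (hz0.trans (map_zero _).symm))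
      subst e this
      rfl
    · intro v
      have hinv : (2 : ZMod q) ≠ 0 := by exact_mod_cast m.ht.ne_zero
      have haa : ρ a (ρ a v) = v := by rw [← apply_mul, ← sq, m.ap, map_one]; rfl
      have hx : (2 : ZMod q)⁻¹ • (v + ρ a v) ∈ W := (memW _).2 (by
        rw [map_smul, map_add, haa, add_comm])
      have hy : ρ g ((2 : ZMod q)⁻¹ • (v - ρ a v)) ∈ W := hto _ (m.az_of_neg (by
        rw [map_smul, map_sub, haa, ← smul_neg, neg_sub]))
      refine ⟨(⟨_, hx⟩, ⟨_, hy⟩), ?_⟩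
      show (2 : ZMod q)⁻¹ • (v + ρ a v) + ρ g (ρ g ((2 : ZMod q)⁻¹ • (v - ρ a v))) = v
      rw [hgg', ← smul_add, add_add_sub_cancel, ← two_smul (ZMod q) v, inv_smul_smul₀ hinv]
  rw [← Nat.card_congr (Equiv.ofBijective f hf), Nat.card_prod, hcW, ← pow_add, two_mul]

/-- In a two-dimensional space the group is the monomial group of maps `(a, ± a⁻¹)`. -/
theorem Mono.exists_coordinates (m : Mono ρ 2 z a) [Finite V]
    (hW : Nat.card {v : V | ρ a v = v} = q) (hV : Nat.card V = q ^ 2) :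
    ∃ e : V ≃ₗ[ZMod q] (Fin 2 → ZMod q), ∀ f : (Fin 2 → ZMod q) ≃ₗ[ZMod q] (Fin 2 → ZMod q),
      (∃ g : G, f = e.symm.trans ((ρ g).trans e)) ↔
      ∃ b s : ZMod q, b ≠ 0 ∧ (s = 1 ∨ s = -1) ∧
        ((∀ v, f v = ![b * v 0, s * b⁻¹ * v 1]) ∨ (∀ v, f v = ![s * b⁻¹ * v 1, b * v 0])) := by
  obtain ⟨v0, hv0, hva⟩ := m.exists_one
  obtain ⟨w0, hw0', hwa'⟩ := m.exists_fixed (Subgroup.mem_zpowers z)
  obtain ⟨g, hg1, hg2, hgg⟩ := m.exists_swap hv0 hw0' hva hwa'
  set w : V := w0 with hw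
  have hw0 : w ≠ 0 := hw0'
  have hwa : ρ (a * z) w = w := hwa'
  have hfix : ∀ u, ρ a u = u → ∃ t : ZMod q, u = t • v0 := by
    intro u hu
    let f : ZMod q → {v : V | ρ a v = v} := fun t => ⟨t • v0, by
      show ρ a (t • v0) = t • v0
      rw [map_smul, hva]⟩
    have hf : Function.Bijective f := by
      refine (Nat.bijective_iff_injective_and_card f).2 ⟨fun s t hst => ?_, by rw [hW, Nat.card_zmod]⟩
      exact smul_left_injective (ZMod q) hv0 (congrArg Subtype.val hst)
    obtain ⟨t, ht⟩ := hf.2 ⟨u, hu⟩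
    exact ⟨t, (congrArg Subtype.val ht).symm⟩
  let L : (Fin 2 → ZMod q) →ₗ[ZMod q] V :=
    (LinearMap.proj 0).smulRight v0 + (LinearMap.proj 1).smulRight w
  have hLapp : ∀ c, L c = c 0 • v0 + c 1 • w := fun c => rfl
  have hL : Function.Bijective L := by
    refine (Nat.bijective_iff_injective_and_card L).2 ⟨?_, by
      rw [hV, Nat.card_fun, Nat.card_zmod, Nat.card_fin]⟩
    rw [injective_iff_map_eq_zero]
    intro c hc
    rw [hLapp] at hc
    have h1 : ρ (a * z) (c 1 • w) = c 1 • w := by rw [map_smul, hwa]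
    have h2 : c 1 • w = 0 := m.fixed_unique (by
      rw [eq_neg_of_add_eq_zero_right hc, map_neg, map_smul, hva]) h1
    rw [h2, add_zero] at hc
    funext i
    fin_cases i
    · exact (smul_eq_zero.1 hc).resolve_right hv0
    · exact (smul_eq_zero.1 h2).resolve_right hw0
  let E := LinearEquiv.ofBijective L hL
  have hE : ∀ c, E c = c 0 • v0 + c 1 • w := fun c => rfl
  -- diagonal elements
  have hdiag : ∀ b : ZMod q, b ≠ 0 → ∃ k : G, ρ k v0 = b • v0 ∧ ρ k w = b⁻¹ • w := by
    intro b hb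
    have hu : b • v0 ≠ 0 := smul_ne_zero hb hv0
    obtain ⟨h, hh1, hh2, -⟩ := m.exists_swap hu hw0 (by rw [map_smul, hva]) hwa
    rw [map_smul] at hh1
    refine ⟨h * g, ?_, ?_⟩
    · rw [apply_mul, hg1, hh2]
    · rw [apply_mul, hg2, ← inv_smul_smul₀ hb (ρ h v0), hh1]
  have hform : ∀ k : G, ρ a (ρ k v0) = ρ k v0 → ∃ b s : ZMod q, b ≠ 0 ∧ (s = 1 ∨ s = -1) ∧
      ρ k v0 = b • v0 ∧ ρ k w = (s * b⁻¹) • w := by
    intro k hk
    obtain ⟨b, hb⟩ := hfix _ hk
    have hb0 : b ≠ 0 := fun h => hv0 ((ρ k).injective (by rw [hb, h, zero_smul, map_zero]))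
    obtain ⟨k', hk1, hk2⟩ := hdiag b hb0
    have h1 : ρ (k'⁻¹ * k) v0 = v0 := by rw [apply_mul, hb, ← hk1, ← apply_mul, inv_mul_cancel, map_one]; rfl
    rcases m.stab_eq hv0 hva h1 with h | h
    · rw [inv_mul_eq_one] at h
      subst h
      exact ⟨b, 1, hb0, Or.inl rfl, hk1, by rw [one_mul]; exact hk2⟩
    · rw [inv_mul_eq_iff_eq_mul] at h
      refine ⟨b, -1, hb0, Or.inr rfl, hb, ?_⟩
      rw [h, apply_mul, m.az_fixed hwa, map_neg, hk2, neg_mul, one_mul, neg_smul]
  have happ : ∀ (k : G) (f : (Fin 2 → ZMod q) ≃ₗ[ZMod q] (Fin 2 → ZMod q)) (c : Fin 2 → ZMod q),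
      f c = E.symm (ρ k (E c)) ↔ E (f c) = ρ k (E c) := fun k f c => E.eq_symm_apply
  refine ⟨E.symm, fun f => ⟨?_, ?_⟩⟩
  · rintro ⟨k, rfl⟩
    by_cases hk : ρ a (ρ k v0) = ρ k v0
    · obtain ⟨b, s, hb, hs, h1, h2⟩ := hform k hk
      refine ⟨b, s, hb, hs, Or.inl fun c => ?_⟩
      show E.symm (ρ k (E c)) = _
      rw [LinearEquiv.symm_apply_eq, hE, hE, map_add, map_smul, map_smul, h1, h2, smul_smul,
        smul_smul]
      simp [mul_comm]
    · have hk' : ρ a (ρ (g * k) v0) = ρ (g * k) v0 := by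
        have hkz : k * a * k⁻¹ = a * z := (m.two_conj k).resolve_left fun h => hk (by
          rw [← apply_mul, show a * k = k * a from (mul_inv_eq_iff_eq_mul.1 h).symm, apply_mul, hva])
        have hgz : g * a * g⁻¹ = a * z := (m.two_conj g).resolve_left fun h => hw0 (m.fixed_unique (by
          rw [← hg1, ← apply_mul, show a * g = g * a from (mul_inv_eq_iff_eq_mul.1 h).symm,
            apply_mul, hva]) hwa)
        have e : a * (g * k) = g * k * a := by
          calc a * (g * k) = (a * z) * z * g * k := by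
                rw [mul_assoc a z z, ← sq z, m.zp, mul_one, mul_assoc]
            _ = g * a * g⁻¹ * z * g * k := by rw [hgz]
            _ = g * (a * z) * k := by
              rw [mul_assoc (g * a * g⁻¹) z g, ← (m.comm (Subgroup.mem_zpowers z) g).eq]; group
            _ = g * k * a := by rw [← hkz]; group
        rw [← apply_mul, e, apply_mul, hva]
      obtain ⟨b, s, hb, hs, h1, h2⟩ := hform (g * k) hk'
      refine ⟨b, s, hb, hs, Or.inr fun c => ?_⟩
      have e : k = g * (g * k) := by rw [← mul_assoc, hgg, one_mul]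
      show E.symm (ρ k (E c)) = _
      rw [LinearEquiv.symm_apply_eq, hE, hE, e, apply_mul, map_add, map_smul, map_smul, h1, h2,
        map_add, map_smul, map_smul, map_smul, map_smul, hg1, hg2, smul_smul, smul_smul, add_comm]
      simp [mul_comm]
  · rintro ⟨b, s, hb, hs, hf⟩
    obtain ⟨k0, hk1, hk2⟩ := hdiag b hb
    obtain ⟨k, hk1, hk2⟩ : ∃ k : G, ρ k v0 = b • v0 ∧ ρ k w = (s * b⁻¹) • w := by
      rcases hs with rfl | rfl
      · exact ⟨k0, hk1, by rw [one_mul]; exact hk2⟩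
      · refine ⟨k0 * a, by rw [apply_mul, hva, hk1], ?_⟩
        rw [apply_mul, m.az_fixed hwa, map_neg, hk2, neg_mul, one_mul, neg_smul]
    rcases hf with hf | hf
    · refine ⟨k, LinearEquiv.ext fun c => ?_⟩
      show f c = E.symm (ρ k (E c))
      rw [happ, hE, hE, map_add, map_smul, map_smul, hk1, hk2, smul_smul, smul_smul, hf]
      simp [mul_comm]
    · refine ⟨g * k, LinearEquiv.ext fun c => ?_⟩
      show f c = E.symm (ρ (g * k) (E c))
      rw [happ, hE, hE, apply_mul, map_add, map_smul, map_smul, hk1, hk2, map_add, map_smul,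
        map_smul, map_smul, map_smul, hg1, hg2, smul_smul, smul_smul, hf, add_comm]
      simp [mul_comm]

end CfsgLib.HalfTransP
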